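import Cfsg.Agent.H32.OutSuz.Pair

/-!
A subgroup of index 1782 containing the pair stabiliser is the stabiliser of one of the two
points; hence automorphisms permute the point stabilisers.
-/

set_option autoImplicit false
set_option Elab.async false
set_option linter.style.haveILetI false

namespace Cfsg.Agent.H32.OutSuz

open Cfsg.Agent.H45 MulAction

/-- The orbit number of a point. -/
def labN (i : ℕ) : ℕ := cget labC i

/-- The root of an orbit. -/
def rootPt (k : ℕ) : Fin 1782 := ⟨roots.getD k 0 % 1782, Nat.mod_lt _ (by norm_num)⟩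

theorem lab_ok : ((allB 1782 fun i => Nat.blt (labN i) 7 &&
      ((List.range 3).all fun j => Nat.beq (labN (cget (pP j) i)) (labN i)) &&
      beqB (bget rowZero i) (Nat.beq (labN i) 3 || Nat.beq (labN i) 4) &&
      ((Nat.beq (cget pdC i) 0 && Nat.beq (roots.getD (labN i) 0 % 1782) i) ||
        (Nat.blt (cget ppC i) 1782 && Nat.blt (cget pgC i) 3 &&
          Nat.blt (cget pdC (cget ppC i)) (cget pdC i) && Nat.beq (labN (cget ppC i)) (labN i) &&
          Nat.beq (cget (pP (cget pgC i)) (cget ppC i)) i))) &&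
    (allB 7 fun k => Nat.beq (labN (roots.getD k 0 % 1782)) k &&
      Nat.beq ((List.range 1782).filter fun i => Nat.beq (labN i) k).length (sizes.getD k 0)) &&
    Nat.beq (labN 0) 0 && Nat.beq (labN 1) 1 && Nat.beq (roots.getD 0 0) 0 &&
    Nat.beq (roots.getD 1 0) 1) = true := by
  decide +kernel

lemma lab_point (i : Fin 1782) : labN i.1 < 7 ∧
    (∀ j < 3, labN (pGen j • i).1 = labN i.1) ∧
    (bget rowZero i.1 = true ↔ labN i.1 = 3 ∨ labN i.1 = 4) := by
  have h := lab_ok
  simp only [Bool.and_eq_true] at h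
  have h1 := allB_spec h.1.1.1.1.1 i.1 i.2
  simp only [Bool.and_eq_true, List.all_eq_true] at h1
  refine ⟨Nat.blt_eq ▸ h1.1.1.1, fun j hj => ?_, ?_⟩
  · rw [rep_pGen hj]
    exact Nat.eq_of_beq_eq_true (h1.1.1.2 j (List.mem_range.2 hj))
  · rw [beqB_eq h1.1.2, Bool.or_eq_true, Nat.beq_eq, Nat.beq_eq]

lemma rootPt_zero : rootPt 0 = pt0 := by
  have h := lab_ok
  simp only [Bool.and_eq_true] at h
  exact Fin.ext (by show roots.getD 0 0 % 1782 = 0; rw [Nat.eq_of_beq_eq_true h.1.2])

lemma rootPt_one : rootPt 1 = pt1 := by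
  have h := lab_ok
  simp only [Bool.and_eq_true] at h
  exact Fin.ext (by show roots.getD 1 0 % 1782 = 1; rw [Nat.eq_of_beq_eq_true h.2])

lemma mem_iff_root {S : Set (Fin 1782)} (hS : ∀ g ∈ pairP, ∀ x ∈ S, g • x ∈ S) :
    ∀ i : Fin 1782, i ∈ S ↔ rootPt (labN i.1) ∈ S := by
  suffices h : ∀ d, ∀ i : Fin 1782, cget pdC i.1 ≤ d → (i ∈ S ↔ rootPt (labN i.1) ∈ S) from
    fun i => h _ i le_rfl
  intro d
  induction d using Nat.strong_induction_on with
  | _ d ih =>
    intro i hd
    have h := lab_ok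
    simp only [Bool.and_eq_true] at h
    have h1 := allB_spec h.1.1.1.1.1 i.1 i.2
    simp only [Bool.and_eq_true, Bool.or_eq_true] at h1
    rcases h1.2 with ⟨-, hr⟩ | ⟨⟨⟨⟨hpp, hpg⟩, hdep⟩, hlab⟩, himg⟩
    · rw [show rootPt (labN i.1) = i from Fin.ext (Nat.eq_of_beq_eq_true hr)]
    · rw [Nat.blt_eq] at hpp hpg hdep
      set p : Fin 1782 := ⟨cget ppC i.1, hpp⟩
      have hgp : pGen (cget pgC i.1) • p = i :=
        Fin.ext ((rep_pGen hpg p).trans (Nat.eq_of_beq_eq_true himg))
      have hg := (pGen_facts hpg).1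
      have e : i ∈ S ↔ p ∈ S := by
        rw [← hgp]
        refine ⟨fun hx => ?_, fun hx => hS _ hg p hx⟩
        have := hS _ (inv_mem hg) _ hx
        rwa [inv_smul_smul] at this
      rw [e, ih (cget pdC p.1) (lt_of_lt_of_le hdep hd) p le_rfl]
      show rootPt (labN (cget ppC i.1)) ∈ S ↔ _
      rw [Nat.eq_of_beq_eq_true hlab]

/-- The number of points selected by a choice of orbits. -/
def selSum (b : List Bool) : ℕ :=
  ((List.range 7).map fun k => bif b.getD k false then sizes.getD k 0 else 0).sum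

lemma ncard_eq_sel {S : Set (Fin 1782)} (hS : ∀ g ∈ pairP, ∀ x ∈ S, g • x ∈ S) (b : List Bool)
    (hb : ∀ k < 7, b.getD k false = true ↔ rootPt k ∈ S) : S.ncard = selSum b := by
  classical
  have hcount : ∀ k < 7, (Finset.univ.filter fun i : Fin 1782 => labN i.1 = k).card =
      sizes.getD k 0 := by
    intro k hk
    have h := lab_ok
    simp only [Bool.and_eq_true] at h
    have h1 := allB_spec h.1.1.1.1.2 k hk
    rw [Bool.and_eq_true] at h1
    rw [← Nat.eq_of_beq_eq_true h1.2,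
      ← List.toFinset_card_of_nodup (List.Nodup.filter _ List.nodup_range)]
    refine Finset.card_bij (fun i _ => i.1) (fun i hi => ?_) (fun i _ j _ e => Fin.ext e) ?_
    · rw [Finset.mem_filter] at hi
      rw [List.mem_toFinset, List.mem_filter, List.mem_range, Nat.beq_eq]
      exact ⟨i.2, hi.2⟩
    · intro n hn
      rw [List.mem_toFinset, List.mem_filter, List.mem_range, Nat.beq_eq] at hn
      exact ⟨⟨n, hn.1⟩, Finset.mem_filter.2 ⟨Finset.mem_univ _, hn.2⟩, rfl⟩
  rw [Set.ncard_eq_toFinset_card' S,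
    Finset.card_eq_sum_card_fiberwise (f := fun i : Fin 1782 => labN i.1) (t := Finset.range 7)
      (fun i _ => Finset.mem_range.2 (lab_point i).1), selSum,
    ← List.sum_toFinset _ List.nodup_range, List.toFinset_range]
  refine Finset.sum_congr rfl fun k hk => ?_
  rw [Finset.mem_range] at hk
  by_cases hm : rootPt k ∈ S
  · rw [(hb k hk).2 hm, cond_true, ← hcount k hk]
    refine congrArg Finset.card (Finset.ext fun i => ?_)
    simp only [Finset.mem_filter, Set.mem_toFinset, Finset.mem_univ, true_and]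
    exact ⟨fun h => h.2, fun h => ⟨(mem_iff_root hS i).2 (h ▸ hm), h⟩⟩
  · rw [Bool.eq_false_iff.2 fun e => hm ((hb k hk).1 e), cond_false, Finset.card_eq_zero,
      Finset.filter_eq_empty_iff]
    intro i hi e
    rw [Set.mem_toFinset] at hi
    exact hm (e ▸ (mem_iff_root hS i).1 hi)

theorem sel_ok : ∀ b2 b3 b4 b5 b6 : Bool,
    (1365 % selSum [false, true, b2, false, false, b5, b6] = 0 →
      (b2 = false ∧ b5 = false ∧ b6 = false) ∨ (b2 = true ∧ b5 = false ∧ b6 = false) ∨
        selSum [false, true, b2, false, false, b5, b6] = 1365) ∧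
    selSum [true, true, b2, b3, b4, b5, b6] ≠ 1365 := by
  decide +kernel

theorem block_ok : (hW.all (fun l => decide (l < 7)) && hW.all (fun l => decide (l < 6)) &&
    Nat.beq (wordAt hW 0) 0 && Nat.beq (labN (wordAt hW 1)) 2 && Nat.blt hX 1782 &&
    Nat.beq (labN hX) 2 &&
    !(Nat.beq (labN (wordAt hW hX)) 1 || Nat.beq (labN (wordAt hW hX)) 2)) = true := by
  decide +kernel

/-- A subgroup between the pair stabiliser and a point stabiliser is one of them. -/
lemma between {M : Subgroup G} (hPM : pairP ≤ M) (hMH : M ≤ stabilizer G pt0) :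
    M = pairP ∨ M = stabilizer G pt0 := by
  classical
  set S : Set (Fin 1782) := orbit M pt1 with hS
  have hinv : ∀ g ∈ pairP, ∀ x ∈ S, g • x ∈ S := by
    rintro g hg _ ⟨⟨m, hm⟩, rfl⟩
    exact ⟨⟨g * m, mul_mem (hPM hg) hm⟩, mul_smul g m pt1⟩
  have hsub : S ⊆ orbit (stabilizer G pt0) pt1 := by
    rintro _ ⟨⟨m, hm⟩, rfl⟩
    exact ⟨⟨m, hMH hm⟩, rfl⟩
  have hcardM : Nat.card M = S.ncard * 184320 := by
    have h1 := (stabilizer M pt1).card_mul_index
    rw [index_stabilizer] at h1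
    have h2 : Nat.card (stabilizer M pt1) = Nat.card pairP :=
      Nat.card_congr ⟨fun x => ⟨x.1.1, hMH x.1.2, x.2⟩, fun x => ⟨⟨x.1, hPM x.2⟩, x.2.2⟩,
        fun _ => rfl, fun _ => rfl⟩
    rw [h2, card_pairP, Nat.mul_comm] at h1
    exact h1.symm
  have hdvd : S.ncard ∣ 1365 := by
    have h1 := Subgroup.card_dvd_of_le hMH
    rw [hcardM, card_stab0, show (251596800 : ℕ) = 1365 * 184320 by norm_num] at h1
    exact Nat.dvd_of_mul_dvd_mul_right (by norm_num) h1
  have hk : ∀ k < 7, (k = 0 ∨ k = 3 ∨ k = 4) → rootPt k ∉ S := by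
    intro k hk hk' hmem
    have h := lab_ok
    simp only [Bool.and_eq_true] at h
    have hlab := allB_spec h.1.1.1.1.2 k hk
    rw [Bool.and_eq_true] at hlab
    have hl : labN (rootPt k).1 = k := Nat.eq_of_beq_eq_true hlab.1
    have hn1 := hsub hmem
    rcases hk' with rfl | hk'
    · rw [rootPt_zero] at hn1
      have e := card_orbit_pt1
      rw [← orbit_eq_iff.2 hn1, orbit_pt0, Set.ncard_singleton] at e
      omega
    · have hrow : bget rowZero (rootPt k).1 = true := (lab_point _).2.2.2 (by rw [hl]; exact hk')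
      have hc : rootPt k ∈ orbit (stabilizer G pt0) ptC := by rw [orbit_ptC_eq]; exact hrow
      have e := card_orbit_pt1
      rw [← orbit_eq_iff.2 hn1, orbit_eq_iff.2 hc, card_orbit_ptC] at e
      omega
  set b : List Bool := [false, true, decide (rootPt 2 ∈ S), false, false,
    decide (rootPt 5 ∈ S), decide (rootPt 6 ∈ S)] with hb
  have hb' : ∀ k < 7, b.getD k false = true ↔ rootPt k ∈ S := by
    intro k hk7
    have n0 := hk 0 (by norm_num) (Or.inl rfl)
    have n3 := hk 3 (by norm_num) (Or.inr (Or.inl rfl))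
    have n4 := hk 4 (by norm_num) (Or.inr (Or.inr rfl))
    have p1 : rootPt 1 ∈ S := by rw [rootPt_one]; exact mem_orbit_self _
    interval_cases k <;> simp [hb, n0, n3, n4, p1]
  have hn := ncard_eq_sel hinv b hb'
  have hmod : 1365 % selSum b = 0 := hn ▸ Nat.mod_eq_zero_of_dvd hdvd
  rcases (sel_ok (decide (rootPt 2 ∈ S)) false false (decide (rootPt 5 ∈ S))
    (decide (rootPt 6 ∈ S))).1 hmod with h | h | h
  · left
    refine (Subgroup.eq_of_le_of_card_ge hPM ?_).symm
    rw [hb, h.1, h.2.1, h.2.2] at hn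
    rw [hcardM, hn, card_pairP]
    exact le_of_eq (by decide +kernel)
  · exfalso
    have hbl := block_ok
    simp only [Bool.and_eq_true] at hbl
    obtain ⟨⟨⟨⟨⟨⟨hw, -⟩, h0⟩, h1⟩, hx⟩, hxl⟩, hout⟩ := hbl
    rw [Nat.blt_eq] at hx
    have h16 : wd hW • pt1 ∈ S := by
      rw [mem_iff_root hinv, wd_smul hw, show (pt1 : Fin 1782).1 = 1 from rfl,
        Nat.eq_of_beq_eq_true h1]
      exact of_decide_eq_true h.1
    have hfix : wd hW • pt0 = pt0 := Fin.ext ((wd_smul hw pt0).trans (Nat.eq_of_beq_eq_true h0))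
    obtain ⟨⟨m, hm⟩, hme⟩ := h16
    have hme' : m • pt1 = wd hW • pt1 := hme
    have hP : m⁻¹ * wd hW ∈ pairP := by
      refine ⟨?_, ?_⟩
      · show (m⁻¹ * wd hW) • pt0 = pt0
        rw [mul_smul, hfix, inv_smul_eq_iff]
        exact (hMH hm).symm
      · show (m⁻¹ * wd hW) • pt1 = pt1
        rw [mul_smul, ← hme', inv_smul_smul]
    have hhM : wd hW ∈ M := by
      have := mul_mem hm (hPM hP)
      rwa [mul_inv_cancel_left] at this
    have hxS : (⟨hX, hx⟩ : Fin 1782) ∈ S := by
      rw [mem_iff_root hinv]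
      show rootPt (labN hX) ∈ S
      rw [Nat.eq_of_beq_eq_true hxl]
      exact of_decide_eq_true h.1
    obtain ⟨⟨m', hm'⟩, hme2⟩ := hxS
    have himg : wd hW • (⟨hX, hx⟩ : Fin 1782) ∈ S :=
      ⟨⟨wd hW * m', mul_mem hhM hm'⟩, (mul_smul (wd hW) m' pt1).trans (congrArg (wd hW • ·) hme2)⟩
    rw [mem_iff_root hinv, wd_smul hw, ← hb' _ (by
      have := (lab_point (wd hW • (⟨hX, hx⟩ : Fin 1782))).1
      rwa [wd_smul hw] at this), hb, h.1, h.2.1, h.2.2] at himg
    simp only [Bool.not_eq_true', Bool.or_eq_false_iff] at hout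
    generalize labN (wordAt hW hX) = l at himg hout
    match l, hout with
    | 1, hout => exact Bool.noConfusion hout.1
    | 2, hout => exact Bool.noConfusion hout.2
    | 0, _ => exact Bool.noConfusion himg
    | 3, _ | 4, _ | 5, _ | 6, _ => exact Bool.noConfusion himg
    | n + 7, _ => exact Bool.noConfusion himg
  · right
    refine Subgroup.eq_of_le_of_card_ge hMH ?_
    rw [hcardM, hn, h, card_stab0]

lemma pairP_conj_swap {g : G} (hg : g ∈ pairP) : ev 6 * g * (ev 6)⁻¹ ∈ pairP := by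
  have h := fix_ok
  simp only [Bool.and_eq_true] at h
  have hr := h.2
  simp only [rowOK, Bool.and_eq_true] at hr
  have e0 : ev 6 • pt0 = pt1 := Fin.ext ((rep_gen (by norm_num) pt0).trans
    (Nat.eq_of_beq_eq_true hr.1.1.2))
  have e1 : ev 6 • pt1 = pt0 := by
    rw [← e0, ← mul_smul, show ev 6 * ev 6 = 1 from by
      conv_lhs => arg 1; rw [show ev 6 = (ev 6)⁻¹ from eOf_inv SuzPres.ok.sq 6]
      exact inv_mul_cancel _, one_smul]
  have i0 : (ev 6)⁻¹ • pt0 = pt1 := by rw [inv_smul_eq_iff, e1]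
  have i1 : (ev 6)⁻¹ • pt1 = pt0 := by rw [inv_smul_eq_iff, e0]
  exact ⟨by show (ev 6 * g * (ev 6)⁻¹) • pt0 = pt0
            rw [mul_smul, mul_smul, i0, show g • pt1 = pt1 from hg.2, e1],
    by show (ev 6 * g * (ev 6)⁻¹) • pt1 = pt1
       rw [mul_smul, mul_smul, i1, show g • pt0 = pt0 from hg.1, e0]⟩

lemma swap_pts : ev 6 • pt0 = pt1 ∧ ev 6 • pt1 = pt0 := by
  have h := fix_ok
  simp only [Bool.and_eq_true] at h
  have hr := h.2
  simp only [rowOK, Bool.and_eq_true] at hr
  have e0 : ev 6 • pt0 = pt1 := Fin.ext ((rep_gen (by norm_num) pt0).trans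
    (Nat.eq_of_beq_eq_true hr.1.1.2))
  refine ⟨e0, ?_⟩
  rw [← e0, ← mul_smul]
  rw [show ev 6 * ev 6 = 1 from by
      conv_lhs => arg 1; rw [show ev 6 = (ev 6)⁻¹ from eOf_inv SuzPres.ok.sq 6]
      exact inv_mul_cancel _, one_smul]

/-- The subgroups of index 1782 containing the pair stabiliser. -/
theorem overgroup {K : Subgroup G} (hK : Nat.card K = 251596800) (hPK : pairP ≤ K) :
    K = stabilizer G pt0 ∨ K = stabilizer G pt1 := by
  classical
  have hhalf : ∀ K : Subgroup G, Nat.card K = 251596800 → pairP ≤ K →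
      K = stabilizer G pt0 ∨ (orbit K pt0).ncard = 1365 := by
    intro K hK hPK
    rcases between (M := K ⊓ stabilizer G pt0) (le_inf hPK inf_le_left) inf_le_right with h | h
    · right
      have h1 := (stabilizer K pt0).card_mul_index
      rw [index_stabilizer, hK] at h1
      have h2 : Nat.card (stabilizer K pt0) = Nat.card pairP := by
        rw [← h]
        exact Nat.card_congr ⟨fun x => ⟨x.1.1, x.1.2, x.2⟩, fun x => ⟨⟨x.1, x.2.1⟩, x.2.2⟩,
          fun _ => rfl, fun _ => rfl⟩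
      rw [h2, card_pairP] at h1
      exact Nat.eq_of_mul_eq_mul_left (show 0 < 184320 by norm_num)
        (h1.trans (by norm_num : (251596800 : ℕ) = 184320 * 1365))
    · left
      exact (Subgroup.eq_of_le_of_card_ge (inf_eq_right.1 h) (by rw [hK, card_stab0])).symm
  rcases hhalf K hK hPK with h0 | h0
  · exact Or.inl h0
  set c : G ≃* G := MulAut.conj (ev 6) with hc
  have hK' : Nat.card (K.map c.toMonoidHom) = 251596800 := by
    rw [Subgroup.card_map_of_injective c.injective, hK]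
  have hPK' : pairP ≤ K.map c.toMonoidHom := by
    intro g hg
    refine ⟨ev 6 * g * (ev 6)⁻¹, hPK (pairP_conj_swap hg), ?_⟩
    have h6 : (ev 6)⁻¹ = ev 6 := (eOf_inv SuzPres.ok.sq 6).symm
    show MulAut.conj (ev 6) _ = g
    rw [MulAut.conj_apply]
    nth_rewrite 1 [← h6]
    group
    rw [show ev 6 ^ (-2 : ℤ) = 1 by
      rw [zpow_neg, show (ev 6) ^ (2 : ℤ) = ev 6 * ev 6 from zpow_two _]
      nth_rewrite 1 [← h6]
      rw [inv_mul_cancel, inv_one]]
    simp
  rcases hhalf _ hK' hPK' with h1 | h1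
  · right
    refine Subgroup.eq_of_le_of_card_ge (fun g hg => ?_) ?_
    · have hmem : c g ∈ stabilizer G pt0 := h1 ▸ Subgroup.mem_map_of_mem _ hg
      show g • pt1 = pt1
      have e : (ev 6 * g * (ev 6)⁻¹) • pt0 = pt0 := hmem
      rw [mul_smul, mul_smul, inv_smul_eq_iff.2 swap_pts.2.symm] at e
      exact MulAction.injective (ev 6) (e.trans swap_pts.2.symm)
    · have h2 := (stabilizer G pt1).card_mul_index
      rw [index_stabilizer_of_transitive, Nat.card_fin, card_G] at h2
      rw [hK]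
      exact le_of_eq (Nat.eq_of_mul_eq_mul_right (show 0 < 1782 by norm_num)
        (h2.trans (by norm_num : (448345497600 : ℕ) = 251596800 * 1782)))
  exfalso
  have h1' : (orbit K pt1).ncard = 1365 := by
    rw [← h1, ← Set.ncard_image_of_injective (orbit K pt1) (MulAction.injective (ev 6))]
    congr 1
    ext z
    constructor
    · rintro ⟨_, ⟨⟨k, hk⟩, rfl⟩, rfl⟩
      refine ⟨⟨c k, Subgroup.mem_map_of_mem _ hk⟩, ?_⟩
      show (ev 6 * k * (ev 6)⁻¹) • pt0 = ev 6 • k • pt1
      rw [mul_smul, mul_smul, inv_smul_eq_iff.2 swap_pts.2.symm]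
    · rintro ⟨⟨_, k, hk, rfl⟩, rfl⟩
      refine ⟨k • pt1, ⟨⟨k, hk⟩, rfl⟩, ?_⟩
      show ev 6 • k • pt1 = (ev 6 * k * (ev 6)⁻¹) • pt0
      rw [mul_smul, mul_smul, inv_smul_eq_iff.2 swap_pts.2.symm]
  have hmeet : ¬ Disjoint (orbit K pt0) (orbit K pt1) := by
    intro hd
    have := Set.ncard_union_eq hd
    have hle := Set.ncard_le_ncard (Set.subset_univ (orbit K pt0 ∪ orbit K pt1))
    rw [Set.ncard_univ, Nat.card_fin, this, h0, h1'] at hle
    omega
  obtain ⟨z, hz0, hz1⟩ := Set.not_disjoint_iff.1 hmeet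
  have heq : orbit K pt1 = orbit K pt0 := (orbit_eq_iff.2 hz1).symm.trans (orbit_eq_iff.2 hz0)
  set S : Set (Fin 1782) := orbit K pt0 with hS
  have hinv : ∀ g ∈ pairP, ∀ x ∈ S, g • x ∈ S := by
    rintro g hg _ ⟨⟨m, hm⟩, rfl⟩
    exact ⟨⟨g * m, mul_mem (hPK hg) hm⟩, mul_smul g m pt0⟩
  set b : List Bool := [true, true, decide (rootPt 2 ∈ S), decide (rootPt 3 ∈ S),
    decide (rootPt 4 ∈ S), decide (rootPt 5 ∈ S), decide (rootPt 6 ∈ S)] with hb
  have hb' : ∀ k < 7, b.getD k false = true ↔ rootPt k ∈ S := by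
    intro k hk7
    have p0 : rootPt 0 ∈ S := by rw [rootPt_zero]; exact mem_orbit_self _
    have p1 : rootPt 1 ∈ S := by rw [rootPt_one, ← heq]; exact mem_orbit_self _
    interval_cases k <;> simp [hb, p0, p1]
  exact (sel_ok _ _ _ _ _).2 ((ncard_eq_sel hinv b hb').symm.trans h0)

/-- Up to conjugation an automorphism fixes the point stabiliser. -/
theorem exists_conj_stab (φ : MulAut G) :
    ∃ g : G, (stabilizer G pt0).map (MulAut.conj g * φ).toMonoidHom = stabilizer G pt0 := by
  classical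
  haveI : Fact (Nat.Prime 2) := ⟨Nat.prime_two⟩
  have hTp : IsPGroup 2 subT :=
    IsPGroup.of_card (n := 13) (by rw [card_subT]; norm_num)
  have hTi : ¬ 2 ∣ subT.index := by
    have h := subT.card_mul_index
    rw [card_subT, card_G] at h
    have : subT.index = 54729675 := Nat.eq_of_mul_eq_mul_left (show 0 < 8192 by norm_num)
      (h.trans (by norm_num : (448345497600 : ℕ) = 8192 * 54729675))
    rw [this]
    norm_num
  set P : Sylow 2 G := hTp.toSylow hTi with hP
  have hPe : (P : Subgroup G) = subT := rfl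
  have hcard : Nat.card (subT.map φ.toMonoidHom) = 8192 := by
    rw [Subgroup.card_map_of_injective φ.injective, card_subT]
  have hQi : ¬ 2 ∣ (subT.map φ.toMonoidHom).index := by
    have h := (subT.map φ.toMonoidHom).card_mul_index
    have h' := subT.card_mul_index
    rw [hcard] at h
    rw [card_subT] at h'
    rw [Nat.eq_of_mul_eq_mul_left (show 0 < 8192 by norm_num) (h.trans h'.symm)]
    exact hTi
  set Q : Sylow 2 G := (IsPGroup.of_card (n := 13) (by rw [hcard]; norm_num) :
    IsPGroup 2 (subT.map φ.toMonoidHom)).toSylow hQi with hQ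
  obtain ⟨g0, hg0⟩ := exists_smul_eq G Q P
  set χ : MulAut G := MulAut.conj g0 * φ with hχ
  have hT : subT.map χ.toMonoidHom = subT := by
    have e2 := congrArg (fun R : Sylow 2 G => (R : Subgroup G)) hg0
    simp only [Sylow.coe_subgroup_smul] at e2
    exact ((Subgroup.map_map subT (MulAut.conj g0).toMonoidHom φ.toMonoidHom).symm).trans e2
  have hTmem : ∀ x, x ∈ subT ↔ χ x ∈ subT := fun x => by
    conv_rhs => rw [← hT]
    exact (Subgroup.mem_map_iff_mem χ.injective).symm
  have hZ : ∀ x, x ∈ zTwo ↔ χ x ∈ zTwo := by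
    intro x
    constructor
    · rintro ⟨hx, hc⟩
      refine ⟨(hTmem x).1 hx, fun t ht s hs => ?_⟩
      obtain ⟨t, rfl⟩ := χ.surjective t
      obtain ⟨s, rfl⟩ := χ.surjective s
      have := congrArg χ (hc t ((hTmem t).2 ht) s ((hTmem s).2 hs))
      simpa only [map_mul, map_inv] using this
    · rintro ⟨hx, hc⟩
      refine ⟨(hTmem x).2 hx, fun t ht s hs => χ.injective ?_⟩
      have := hc (χ t) ((hTmem t).1 ht) (χ s) ((hTmem s).1 hs)
      simpa only [map_mul, map_inv] using this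
  have hN : ∀ x, x ∈ nGrp ↔ χ x ∈ nGrp := by
    intro x
    constructor
    · intro hx y
      obtain ⟨y, rfl⟩ := χ.surjective y
      rw [← map_inv, ← map_mul, ← map_mul, ← hZ, ← hZ]
      exact hx y
    · intro hx y
      rw [hZ, hZ (x * y * x⁻¹), map_mul, map_mul, map_inv]
      exact hx (χ y)
  have hP01 : pairP.map χ.toMonoidHom = pairP := by
    rw [← pairP_eq_closure, MonoidHom.map_closure]
    congr 1
    ext y
    constructor
    · rintro ⟨x, ⟨hx, ho⟩, rfl⟩
      exact ⟨(hN x).1 hx, by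
        show Odd (orderOf (χ x))
        rwa [χ.orderOf_eq]⟩
    · rintro ⟨hy, ho⟩
      obtain ⟨x, rfl⟩ := χ.surjective y
      exact ⟨x, ⟨(hN x).2 hy, by rwa [χ.orderOf_eq] at ho⟩, rfl⟩
  have hKc : Nat.card ((stabilizer G pt0).map χ.toMonoidHom) = 251596800 := by
    rw [Subgroup.card_map_of_injective χ.injective, card_stab0]
  rcases overgroup hKc (hP01 ▸ Subgroup.map_mono inf_le_left) with h | h
  · exact ⟨g0, h⟩
  · refine ⟨ev 6 * g0, ?_⟩
    rw [map_mul, mul_assoc, ← hχ]
    refine Subgroup.eq_of_le_of_card_ge ?_ ?_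
    · rintro _ ⟨x, hx, rfl⟩
      have h1 : χ x ∈ stabilizer G pt1 := h ▸ Subgroup.mem_map_of_mem _ hx
      show (ev 6 * χ x * (ev 6)⁻¹) • pt0 = pt0
      rw [mul_smul, mul_smul, inv_smul_eq_iff.2 swap_pts.2.symm,
        show χ x • pt1 = pt1 from h1, swap_pts.2]
    · rw [Subgroup.card_map_of_injective (MulEquiv.injective _), card_stab0]

end Cfsg.Agent.H32.OutSuz
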