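import Cfsg.Agent.H32.OutSuz.Rows
import Cfsg.Agent.H32.OutSuz.SigData

/-!
An upper bound for the permutations preserving the adjacency relation.
-/

set_option autoImplicit false
set_option Elab.async false

namespace Cfsg.Agent.H32.OutSuz

open Cfsg.Agent.H45 MulAction

/-- A row is the one of the point. -/
def GoodRow (e : ℕ × ℕ) : Prop :=
  ∃ hp : e.1 < 1782, ∀ x : Fin 1782, Rel ⟨e.1, hp⟩ x ↔ bget e.2 x.1 = true

/-- The permutations preserving adjacency and fixing the listed points. -/
def autFix (l : List (ℕ × ℕ)) : Subgroup (Equiv.Perm (Fin 1782)) where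
  carrier := {σ | (∀ i j, Rel (σ i) (σ j) ↔ Rel i j) ∧
    ∀ p : Fin 1782, p.1 ∈ l.map Prod.fst → σ p = p}
  one_mem' := ⟨fun _ _ => Iff.rfl, fun _ _ => rfl⟩
  mul_mem' {σ τ} hs ht := ⟨fun i j => (hs.1 _ _).trans (ht.1 i j),
    fun p hp => by rw [Equiv.Perm.mul_apply, ht.2 p hp, hs.2 p hp]⟩
  inv_mem' {σ} hs := ⟨fun i j => by simpa using (hs.1 (σ⁻¹ i) (σ⁻¹ j)).symm,
    fun p hp => Equiv.Perm.inv_eq_iff_eq.2 (hs.2 p hp).symm⟩

/-- A point has the pattern of `p` against the fixed points. -/
def classTest (l : List (ℕ × ℕ)) (p x : ℕ) : Bool :=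
  l.all fun e => !Nat.beq e.1 x && beqB (bget e.2 x) (bget e.2 p)

/-- The number of points with the pattern of `p`. -/
def classCount (l : List (ℕ × ℕ)) (p : ℕ) : ℕ :=
  ((List.range 1782).filter (classTest l p)).length

/-- The bound given by a list of base points. -/
def chainBound (l : List (ℕ × ℕ)) : List (ℕ × ℕ) → ℕ
  | [] => 1
  | e :: t => classCount l e.1 * chainBound (e :: l) t

/-- The pattern of a point against a list. -/
def sigOf : List (ℕ × ℕ) → ℕ → ℕ
  | [], _ => 0
  | e :: t, x =>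
    Nat.add (Nat.mul 4 (sigOf t x))
      (bif Nat.beq e.1 x then 1 else bif bget e.2 x then 2 else 3)

/-- The base with rows. -/
def base : List (ℕ × ℕ) := seqRows.map fun e => (e.1, e.2.2)

theorem base_ok : ((seqRows.all fun e => Nat.blt e.1 1782 && rowOK e.1 e.2.1 e.2.2) &&
    Nat.beq (chainBound [] base) 896690995200 && decide (base.map Prod.fst).Nodup) = true := by
  decide +kernel

theorem sig_ok : ((allB 1781 fun r => Nat.blt (sigOf base.reverse (cget sigSrt r))
      (sigOf base.reverse (cget sigSrt (r + 1)))) &&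
    allB 1782 fun i => Nat.blt (cget sigRk i) 1782 && Nat.beq (cget sigSrt (cget sigRk i)) i) =
    true := by
  decide +kernel

lemma sig_injective {x y : Fin 1782} (h : sigOf base.reverse x.1 = sigOf base.reverse y.1) :
    x = y := by
  have hk := sig_ok
  rw [Bool.and_eq_true] at hk
  obtain ⟨hs, hr⟩ := hk
  set f := fun r => sigOf base.reverse (cget sigSrt r)
  have hmono : ∀ d r, r + d + 1 < 1782 → f r < f (r + d + 1) := by
    intro d
    induction d with
    | zero => intro r hr; exact Nat.blt_eq ▸ allB_spec hs r (by omega)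
    | succ d ih =>
      intro r hr
      exact (ih r (by omega)).trans (Nat.blt_eq ▸ allB_spec hs (r + d + 1) (by omega))
  have hx := allB_spec hr x.1 x.2
  have hy := allB_spec hr y.1 y.2
  simp only [Bool.and_eq_true, Nat.blt_eq] at hx hy
  have ex := Nat.eq_of_beq_eq_true hx.2
  have ey := Nat.eq_of_beq_eq_true hy.2
  have hf : f (cget sigRk x.1) = f (cget sigRk y.1) := by
    show sigOf base.reverse (cget sigSrt _) = sigOf base.reverse (cget sigSrt _)
    rw [ex, ey, h]
  rcases Nat.lt_trichotomy (cget sigRk x.1) (cget sigRk y.1) with hlt | heq | hlt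
  · have := hmono (cget sigRk y.1 - cget sigRk x.1 - 1) (cget sigRk x.1) (by omega)
    rw [show cget sigRk x.1 + (cget sigRk y.1 - cget sigRk x.1 - 1) + 1 = cget sigRk y.1 by omega,
      hf] at this
    exact absurd this (lt_irrefl _)
  · exact Fin.ext (ex.symm.trans ((congrArg _ heq).trans ey))
  · have := hmono (cget sigRk x.1 - cget sigRk y.1 - 1) (cget sigRk y.1) (by omega)
    rw [show cget sigRk y.1 + (cget sigRk x.1 - cget sigRk y.1 - 1) + 1 = cget sigRk x.1 by omega,
      hf] at this
    exact absurd this (lt_irrefl _)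

lemma row_iff {σ : Equiv.Perm (Fin 1782)} {l : List (ℕ × ℕ)} (hs : σ ∈ autFix l) {e : ℕ × ℕ}
    (he : e ∈ l) (hg : GoodRow e) (x : Fin 1782) :
    (Nat.beq e.1 (σ x).1 = Nat.beq e.1 x.1) ∧ bget e.2 (σ x).1 = bget e.2 x.1 := by
  obtain ⟨hp, hrel⟩ := hg
  have hfix : σ ⟨e.1, hp⟩ = ⟨e.1, hp⟩ := hs.2 _ (List.mem_map.2 ⟨e, he, rfl⟩)
  constructor
  · rw [Bool.eq_iff_iff, Nat.beq_eq, Nat.beq_eq]
    constructor
    · intro h
      exact congrArg Fin.val (σ.injective (hfix.trans (Fin.ext h)) : (⟨e.1, hp⟩ : Fin 1782) = x)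
    · intro h
      exact congrArg Fin.val (hfix.symm.trans (congrArg σ (Fin.ext h)) :
        (⟨e.1, hp⟩ : Fin 1782) = σ x)
  · have h := hs.1 ⟨e.1, hp⟩ x
    rw [hfix, hrel, hrel] at h
    exact Bool.eq_iff_iff.2 h

lemma base_good : ∀ e ∈ base, GoodRow e := by
  intro e he
  obtain ⟨r, hr, rfl⟩ := List.mem_map.1 he
  have h := base_ok
  simp only [Bool.and_eq_true, List.all_eq_true, Nat.blt_eq] at h
  obtain ⟨hp, hrow⟩ := h.1.1 r hr
  exact ⟨hp, rel_iff_row (p := ⟨r.1, hp⟩) hrow⟩

lemma autFix_base : autFix base.reverse = ⊥ := by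
  rw [eq_bot_iff]
  intro σ hs
  rw [Subgroup.mem_bot]
  refine Equiv.ext fun x => sig_injective ?_
  suffices h : ∀ t : List (ℕ × ℕ), t ⊆ base.reverse → sigOf t (σ x).1 = sigOf t x.1 from
    h _ (List.Subset.refl _)
  intro t
  induction t with
  | nil => exact fun _ => rfl
  | cons e t ih =>
    intro ht
    have he : e ∈ base.reverse := ht List.mem_cons_self
    obtain ⟨h1, h2⟩ := row_iff hs he (base_good e (List.mem_reverse.1 he)) x
    rw [sigOf, sigOf, ih fun a ha => ht (List.mem_cons_of_mem _ ha), h1, h2]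

lemma card_autFix_step {l : List (ℕ × ℕ)} (hl : ∀ e ∈ l, GoodRow e) {e : ℕ × ℕ} (hp : e.1 < 1782)
    (hnot : e.1 ∉ l.map Prod.fst) :
    Nat.card (autFix l) ≤ classCount l e.1 * Nat.card (autFix (e :: l)) := by
  set p : Fin 1782 := ⟨e.1, hp⟩
  rw [← Subgroup.card_mul_index (stabilizer (autFix l) p), mul_comm, MulAction.index_stabilizer]
  refine Nat.mul_le_mul ?_ (Nat.card_le_card_of_injective
    (fun g : stabilizer (autFix l) p => (⟨g.1.1, g.1.2.1, fun q hq => ?_⟩ : autFix (e :: l))) ?_)
  · rw [classCount, ← List.toFinset_card_of_nodup (List.Nodup.filter _ List.nodup_range),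
      ← Set.ncard_coe_finset]
    refine Set.ncard_le_ncard_of_injOn (fun x => x.1) (fun x hx => ?_)
      (fun a _ b _ h => Fin.ext h) (Finset.finite_toSet _)
    obtain ⟨⟨σ, hs⟩, rfl⟩ := hx
    rw [Finset.mem_coe, List.mem_toFinset, List.mem_filter, List.mem_range]
    refine ⟨(σ p).2, ?_⟩
    rw [classTest, List.all_eq_true]
    intro d hd
    obtain ⟨h1, h2⟩ := row_iff hs hd (hl d hd) p
    rw [Bool.and_eq_true]
    show (!Nat.beq d.1 (σ p).1) = true ∧ beqB (bget d.2 (σ p).1) (bget d.2 p.1) = true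
    rw [h1, h2]
    refine ⟨?_, by cases bget d.2 p.1 <;> rfl⟩
    rw [Bool.not_eq_true', Bool.eq_false_iff]
    intro h
    exact hnot (List.mem_map.2 ⟨d, hd, Nat.eq_of_beq_eq_true h⟩)
  · rw [List.map_cons, List.mem_cons] at hq
    rcases hq with h | h
    · rw [show q = p from Fin.ext h]; exact g.2
    · exact g.1.2.2 q h
  · intro a b h
    exact Subtype.ext (Subtype.ext (congrArg (fun z : autFix (e :: l) => z.1) h))

lemma card_autFix_le : ∀ (t l : List (ℕ × ℕ)), ((t.reverse ++ l).map Prod.fst).Nodup →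
    (∀ e ∈ t.reverse ++ l, GoodRow e) → autFix (t.reverse ++ l) = ⊥ →
    Nat.card (autFix l) ≤ chainBound l t
  | [], l, _, _, h => by
    rw [List.reverse_nil, List.nil_append] at h
    rw [h, Subgroup.card_bot, chainBound]
  | e :: t, l, hnd, hg, h => by
    have he : (e :: t).reverse ++ l = t.reverse ++ e :: l := by simp
    rw [he] at hnd hg h
    have h2 := hnd
    rw [List.map_append, List.map_cons] at h2
    have h3 := (List.nodup_cons.1 (List.nodup_append.1 h2).2.1).1
    refine (card_autFix_step (fun d hd => hg d (List.mem_append_right _ (List.mem_cons_of_mem _ hd)))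
      (hg e (List.mem_append_right _ List.mem_cons_self)).choose h3).trans ?_
    rw [chainBound]
    exact Nat.mul_le_mul_left _ (card_autFix_le t (e :: l) hnd hg h)

/-- At most twice as many permutations preserve adjacency as there are group elements. -/
theorem card_autFix_nil : Nat.card (autFix []) ≤ 896690995200 := by
  have h := base_ok
  simp only [Bool.and_eq_true, decide_eq_true_eq] at h
  rw [← Nat.eq_of_beq_eq_true h.1.2]
  refine card_autFix_le base [] ?_ (fun e he => base_good e ?_)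
    (by rw [List.append_nil]; exact autFix_base)
  · rw [List.append_nil, List.map_reverse, List.nodup_reverse]
    exact h.2
  · rwa [List.append_nil, List.mem_reverse] at he

end Cfsg.Agent.H32.OutSuz
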