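import Cfsg.Agent.H32.OutSuz.Sylow

/-!
The stabiliser of a non-adjacent pair, recovered from the second centre of the Sylow subgroup,
and the subgroups of index 1782 containing it.
-/

set_option autoImplicit false
set_option Elab.async false
set_option linter.style.haveILetI false

namespace Cfsg.Agent.H32.OutSuz

open Cfsg.Agent.H45 MulAction

/-- The stabiliser of the pair of points. -/
noncomputable def pairP : Subgroup G := stabilizer G pt0 ⊓ stabilizer G pt1

lemma card_pairP : Nat.card pairP = 184320 := by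
  have h1 := (stabilizer (stabilizer G pt0) pt1).card_mul_index
  rw [index_stabilizer, card_orbit_pt1, card_stab0] at h1
  have h2 : Nat.card (stabilizer (stabilizer G pt0) pt1) = Nat.card pairP :=
    Nat.card_congr ⟨fun x => ⟨x.1.1, x.1.2, x.2⟩, fun x => ⟨⟨x.1, x.2.1⟩, x.2.2⟩,
      fun _ => rfl, fun _ => rfl⟩
  rw [h2] at h1
  exact Nat.eq_of_mul_eq_mul_right (show 0 < 1365 by norm_num)
    (h1.trans (by norm_num : (251596800 : ℕ) = 184320 * 1365))

/-- A generator of the pair stabiliser. -/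
noncomputable def pGen (j : ℕ) : G := el (pIds.getD j 0)

/-- The packed permutation of a generator. -/
def pP (j : ℕ) : ℕ := valOf (pIds.getD j 0)

theorem pIds_ok : (allB 3 fun j => Nat.blt (pIds.getD j 0) prog.length) = true := by decide +kernel

lemma rep_pGen {j : ℕ} (hj : j < 3) : Rep (pGen j) (pP j) :=
  rep_el (Nat.blt_eq ▸ allB_spec pIds_ok j hj : pIds.getD j 0 < prog.length)

theorem pGen_ok : (allB 3 fun j => Nat.beq (cget (pP j) 0) 0 && Nat.beq (cget (pP j) 1) 1 &&
    (pWords.getD j []).all (fun l => decide (l < 7)) &&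
    allB 1782 fun i => Nat.beq (wordAt (pWords.getD j []) i) (cget (pP j) i) &&
      Nat.beq (cget (pP j) (cget (pP j) (cget (pP j) i))) i) = true := by
  decide +kernel

lemma pGen_facts {j : ℕ} (hj : j < 3) :
    pGen j ∈ pairP ∧ pGen j = wd (pWords.getD j []) ∧ pGen j ^ 3 = 1 := by
  have h := allB_spec pGen_ok j hj
  simp only [Bool.and_eq_true] at h
  obtain ⟨⟨⟨h0, h1⟩, hw⟩, hall⟩ := h
  refine ⟨⟨Fin.ext ((rep_pGen hj pt0).trans (Nat.eq_of_beq_eq_true h0)),
    Fin.ext ((rep_pGen hj pt1).trans (Nat.eq_of_beq_eq_true h1))⟩, ?_, ?_⟩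
  · refine eq_of_smul_eq_smul fun i : Fin 1782 => Fin.ext ?_
    have := allB_spec hall i.1 i.2
    rw [Bool.and_eq_true] at this
    rw [rep_pGen hj, wd_smul hw, Nat.eq_of_beq_eq_true this.1]
  · refine eq_of_smul_eq_smul fun i : Fin 1782 => Fin.ext ?_
    have := allB_spec hall i.1 i.2
    rw [Bool.and_eq_true] at this
    rw [pow_succ, pow_succ, pow_one, mul_smul, mul_smul, one_smul, rep_pGen hj, rep_pGen hj,
      rep_pGen hj, Nat.eq_of_beq_eq_true this.2]

/-- The subgroup generated by the three generators. -/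
def pClo : Subgroup G := Subgroup.closure {g | ∃ j < 3, pGen j = g}

/-- The letters of a generator or of its inverse. -/
def pLetters (j : ℕ) : List ℕ :=
  if Nat.blt j 3 then pWords.getD j [] else (pWords.getD (j - 3) []).reverse

/-- The certificate of the order of the generated subgroup. -/
def pChain : List Lvl :=
  (List.range 4).map fun k =>
    ⟨[2, 4, 8, 15].getD k 0, (chainI.getD k []).map fun w => w.flatMap pLetters,
      [1024, 15, 4, 3].getD k 0, chainSteps.getD k []⟩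

theorem pChain_ok : (chainCheck 7 1782 SuzI1782.cols pChain &&
    Nat.beq (chainProd pChain) 184320 &&
    chainI.all fun l => l.all fun w => w.all fun j => Nat.blt j 6) = true := by
  decide +kernel

lemma wd_mem_pClo : ∀ {w : List ℕ}, (w.all fun j => Nat.blt j 6) = true →
    wd (w.flatMap pLetters) ∈ pClo
  | [], _ => pClo.one_mem
  | j :: w, h => by
    rw [List.all_cons, Bool.and_eq_true, Nat.blt_eq] at h
    rw [List.flatMap_cons, wd, evalW_append]
    refine mul_mem ?_ (wd_mem_pClo h.2)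
    unfold pLetters
    split
    · next hj =>
      rw [Nat.blt_eq] at hj
      show wd _ ∈ pClo
      rw [← (pGen_facts hj).2.1]
      exact Subgroup.subset_closure ⟨j, hj, rfl⟩
    · next hj =>
      rw [Nat.blt_eq] at hj
      have hj3 : j - 3 < 3 := by omega
      have hmem : evalW ev (pWords.getD (j - 3) []) ∈ pClo := by
        show wd _ ∈ pClo
        rw [← (pGen_facts hj3).2.1]
        exact Subgroup.subset_closure ⟨j - 3, hj3, rfl⟩
      have hrev : ∀ u : List ℕ, evalW ev u.reverse = (evalW ev u)⁻¹ := by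
        intro u
        induction u with
        | nil => simp [evalW]
        | cons l u ih =>
          rw [List.reverse_cons, evalW_append, ih, evalW_cons ev l u, mul_inv_rev]
          congr 1
          show evalW ev [l] = _
          rw [show evalW ev [l] = ev l from List.prod_singleton]
          exact eOf_inv SuzPres.ok.sq l
      rw [hrev]
      exact inv_mem hmem

lemma pClo_eq : pClo = pairP := by
  have hle : pClo ≤ pairP := (Subgroup.closure_le _).2 fun g ⟨j, hj, e⟩ => e ▸ (pGen_facts hj).1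
  refine Subgroup.eq_of_le_of_card_ge hle ?_
  have h := pChain_ok
  simp only [Bool.and_eq_true, List.all_eq_true] at h
  obtain ⟨⟨hc, hp⟩, hl⟩ := h
  have hlet := chainCheck_letters hc
  rw [card_pairP, ← Nat.eq_of_beq_eq_true hp, ← Subgroup.card_map_of_injective (K := pClo) phi_inj]
  refine chainCheck_sound (permCheck_PT SuzMain.perm_ok) hc _ fun lv hlv g hg => ?_
  obtain ⟨k, hk, rfl⟩ := List.mem_map.1 hlv
  obtain ⟨w, hw, rfl⟩ := List.mem_map.1 hg
  refine ⟨wd (w.flatMap pLetters), wd_mem_pClo ?_, ?_⟩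
  · rw [List.all_eq_true]
    intro j hj
    refine hl (chainI.getD k []) ?_ w hw j hj
    by_cases hk' : k < chainI.length
    · rw [List.getD_eq_getElem _ _ hk']; exact List.getElem_mem hk'
    · rw [List.getD_eq_default _ _ (by omega)] at hw; exact absurd hw List.not_mem_nil
  · exact phi_act.evalW _ (hlet _ hlv _ hg)

/-! ### The second centre and its normaliser -/

/-- A nontrivial element of the second centre. -/
noncomputable def lEl (k : ℕ) : G := el (lIds.getD k 0)

/-- Its packed permutation. -/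
def lP (k : ℕ) : ℕ := valOf (lIds.getD k 0)

/-- The node of a nontrivial element of the second centre is `i`. -/
def lNode (k i : ℕ) : Bool :=
  allB 5 fun m => Nat.beq (cget (lP k) (base5.getD m 0 % 1782)) (cget (ndB m) i)

theorem lEl_ok : ((allB 3 fun k => Nat.blt (lIds.getD k 0) prog.length &&
    z2L.any fun i => lNode k i) &&
    (z2L.all fun i => Nat.beq i 0 || (List.range 3).any fun k => lNode k i) &&
    z2L.any (Nat.beq 0)) = true := by
  decide +kernel

lemma rep_lEl {k : ℕ} (hk : k < 3) : Rep (lEl k) (lP k) := by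
  have h := lEl_ok
  simp only [Bool.and_eq_true] at h
  have h1 := allB_spec h.1.1 k hk
  rw [Bool.and_eq_true, Nat.blt_eq] at h1
  exact rep_el h1.1

lemma lEl_node {k i : ℕ} (hk : k < 3) (hi : i < 8192) (h : lNode k i = true) : Nd (lEl k) i :=
  ⟨hi, fun m => by
    rw [rep_lEl hk]
    exact Nat.eq_of_beq_eq_true (allB_spec h m.1 m.2)⟩

lemma z2L_lt {i : ℕ} (hi : i ∈ z2L) : i < 8192 := by
  have h := z2_ok
  simp only [Bool.and_eq_true, List.all_eq_true] at h
  exact Nat.blt_eq ▸ (h.2 i hi).1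

lemma zTwo_eq : zTwo = {g | g = 1 ∨ ∃ k < 3, g = lEl k} := by
  have h := lEl_ok
  simp only [Bool.and_eq_true, List.all_eq_true, List.any_eq_true] at h
  obtain ⟨⟨hk, hc⟩, h0, h0mem, h0eq⟩ := h
  have h00 : (0 : ℕ) ∈ z2L := by rw [Nat.eq_of_beq_eq_true h0eq]; exact h0mem
  ext g
  constructor
  · intro hg
    obtain ⟨i, hi⟩ := exists_node hg.1
    have hiz := (mem_zTwo hi hg.1).1 hg
    have := hc i hiz
    rw [Bool.or_eq_true, List.any_eq_true] at this
    rcases this with h' | ⟨k, hk', hn⟩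
    · exact Or.inl (nd_elem (Nat.eq_of_beq_eq_true h' ▸ hi) nd_one)
    · rw [List.mem_range] at hk'
      exact Or.inr ⟨k, hk', nd_elem hi (lEl_node hk' hi.1 hn)⟩
  · rintro (rfl | ⟨k, hk', rfl⟩)
    · exact (mem_zTwo nd_one (one_mem _)).2 h00
    · have h1 := allB_spec hk k hk'
      rw [Bool.and_eq_true, List.any_eq_true] at h1
      obtain ⟨i, hi, hn⟩ := h1.2
      have hnd := lEl_node hk' (z2L_lt hi) hn
      obtain ⟨g, hg, hgn⟩ := exists_elem i (z2L_lt hi)
      exact (mem_zTwo hnd (nd_elem hgn hnd ▸ hg)).2 hi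

/-- The normaliser of the second centre. -/
def nGrp : Subgroup G where
  carrier := {g | ∀ x, x ∈ zTwo ↔ g * x * g⁻¹ ∈ zTwo}
  one_mem' := fun x => by rw [one_mul, inv_one, mul_one]
  mul_mem' {g h} hg hh x := by
    rw [hh x, hg (h * x * h⁻¹), mul_inv_rev]
    simp only [mul_assoc]
  inv_mem' {g} hg x := by
    rw [hg (g⁻¹ * x * g⁻¹⁻¹)]
    rw [show g * (g⁻¹ * x * g⁻¹⁻¹) * g⁻¹ = x by group]

/-- The image of a nontrivial element under conjugation by a generator. -/
def conjIx (j k : ℕ) : ℕ := conjTab.getD (2 * j + k) 0 - 1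

theorem conj_ok : ((allB 3 fun j => allB 2 fun k => Nat.blt (conjIx j k) 3 &&
    allB 1782 fun i => Nat.beq (cget (pP j) (cget (lP k) i))
      (cget (lP (conjIx j k)) (cget (pP j) i))) &&
    mulOK (lP 2) (lP 0) (lP 1) && (allB 1782 fun i => Nat.beq (cget (lP 0) (cget (lP 0) i)) i) &&
    allB 1782 fun i => Nat.beq (cget (lP 1) (cget (lP 1) i)) i) = true := by
  decide +kernel

lemma pClo_le_nGrp : pClo ≤ nGrp := by
  refine (Subgroup.closure_le _).2 ?_
  rintro _ ⟨j, hj, rfl⟩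
  have h := conj_ok
  simp only [Bool.and_eq_true] at h
  obtain ⟨⟨⟨hc, h2⟩, -⟩, -⟩ := h
  have e2 : lEl 2 = lEl 0 * lEl 1 :=
    rep_unique (rep_lEl (by norm_num))
      (rep_mul h2 (rep_lEl (by norm_num)) (rep_lEl (by norm_num)))
  have himg : ∀ k < 2, ∃ m < 3, pGen j * lEl k * (pGen j)⁻¹ = lEl m := by
    intro k hk
    have h1 := allB_spec (allB_spec hc j hj) k hk
    simp only [Bool.and_eq_true, Nat.blt_eq] at h1
    refine ⟨conjIx j k, h1.1, mul_inv_eq_iff_eq_mul.2 ?_⟩
    refine eq_of_smul_eq_smul fun i : Fin 1782 => Fin.ext ?_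
    rw [mul_smul, mul_smul, rep_pGen hj, rep_lEl (show k < 3 by omega), rep_lEl h1.1, rep_pGen hj,
      Nat.eq_of_beq_eq_true (allB_spec h1.2 i.1 i.2)]
  have hsub : ∀ x ∈ zTwo, pGen j * x * (pGen j)⁻¹ ∈ zTwo := by
    have hmul : ∀ a ∈ zTwo, ∀ b ∈ zTwo, a * b ∈ zTwo := by
      intro a ha b hb
      refine ⟨mul_mem ha.1 hb.1, fun t ht s hs => ?_⟩
      have e : a * b * t * (a * b)⁻¹ * t⁻¹ = (a * (b * t * b⁻¹ * t⁻¹) * a⁻¹ *
          (b * t * b⁻¹ * t⁻¹)⁻¹) * (b * t * b⁻¹ * t⁻¹) * (a * t * a⁻¹ * t⁻¹) := by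
        have hbt : b * t * b⁻¹ * t⁻¹ ∈ subT :=
          mul_mem (mul_mem (mul_mem hb.1 ht) (inv_mem hb.1)) (inv_mem ht)
        have hc1 := hb.2 t ht a ha.1
        have hc2 := hb.2 t ht (a * t * a⁻¹ * t⁻¹)
          (mul_mem (mul_mem (mul_mem ha.1 ht) (inv_mem ha.1)) (inv_mem ht))
        rw [show a * (b * t * b⁻¹ * t⁻¹) * a⁻¹ = b * t * b⁻¹ * t⁻¹ by
          rw [← hc1]; group, mul_inv_cancel, one_mul, hc2]
        calc a * b * t * (a * b)⁻¹ * t⁻¹ = a * (b * t * b⁻¹ * t⁻¹) * (t * a⁻¹ * t⁻¹) := by group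
          _ = b * t * b⁻¹ * t⁻¹ * a * (t * a⁻¹ * t⁻¹) := by rw [← hc1]
          _ = (b * t * b⁻¹ * t⁻¹) * (a * t * a⁻¹ * t⁻¹) := by group
          _ = _ := hc2
      rw [e]
      have hbt := hb.2 t ht
      have hat := ha.2 t ht
      have hb' : b * t * b⁻¹ * t⁻¹ ∈ subT :=
        mul_mem (mul_mem (mul_mem hb.1 ht) (inv_mem hb.1)) (inv_mem ht)
      rw [show a * (b * t * b⁻¹ * t⁻¹) * a⁻¹ = b * t * b⁻¹ * t⁻¹ by
        rw [← hbt a ha.1]; group, mul_inv_cancel, one_mul, mul_assoc, hat s hs, ← mul_assoc,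
        hbt s hs, mul_assoc]
    intro x hx
    have hx' := hx
    rw [zTwo_eq] at hx'
    rcases hx' with rfl | ⟨k, hk, rfl⟩
    · rw [mul_one, mul_inv_cancel]; exact hx
    · have hm : ∀ k < 2, pGen j * lEl k * (pGen j)⁻¹ ∈ zTwo := fun k hk => by
        obtain ⟨m, hm, e⟩ := himg k hk
        rw [e, zTwo_eq]
        exact Or.inr ⟨m, hm, rfl⟩
      obtain hk2 | rfl : k < 2 ∨ k = 2 := by omega
      · exact hm k hk2
      · rw [e2, show pGen j * (lEl 0 * lEl 1) * (pGen j)⁻¹ =
          (pGen j * lEl 0 * (pGen j)⁻¹) * (pGen j * lEl 1 * (pGen j)⁻¹) by group]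
        exact hmul _ (hm 0 (by norm_num)) _ (hm 1 (by norm_num))
  intro x
  refine ⟨hsub x, fun hx => ?_⟩
  have h3 := (pGen_facts hj).2.2
  have := hsub _ (hsub _ hx)
  rwa [show pGen j * (pGen j * (pGen j * x * (pGen j)⁻¹) * (pGen j)⁻¹) * (pGen j)⁻¹ =
    pGen j ^ 3 * x * (pGen j ^ 3)⁻¹ by rw [pow_succ, pow_succ, pow_one]; group, h3, one_mul, inv_one, mul_one] at this

theorem fix_ok : ((allB 1782 fun i =>
    beqB (Nat.beq (cget (lP 0) i) i && Nat.beq (cget (lP 1) i) i) (fixL.any (Nat.beq i))) &&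
    (fixL.all fun i => Nat.beq i 0 || Nat.beq i 1 || isoList.any (fun e => Nat.beq e.1 i)) &&
    (isoList.all fun e => e.2.1.all (fun l => decide (l < 7)) && Nat.beq (wordAt e.2.1 0) e.1 &&
      bget rowZero e.2.2 && Nat.blt e.2.2 1782 && fixL.any (Nat.beq (wordAt e.2.1 e.2.2))) &&
    (fixL.all fun i => !bget rowZero i && !bget rowOne i) &&
    fixL.any (Nat.beq 0) && fixL.any (Nat.beq 1) &&
    rowOK 0 [] rowZero && rowOK 1 [6] rowOne) = true := by
  decide +kernel

/-- The points fixed by the second centre. -/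
def fixF : Set (Fin 1782) := {i | ∀ x ∈ zTwo, x • i = i}

lemma mem_fixF (i : Fin 1782) : i ∈ fixF ↔ i.1 ∈ fixL := by
  have h := fix_ok
  simp only [Bool.and_eq_true] at h
  have h1 := beqB_eq (allB_spec h.1.1.1.1.1.1.1 i.1 i.2)
  have hany : fixL.any (Nat.beq i.1) = true ↔ i.1 ∈ fixL := by
    rw [List.any_eq_true]
    exact ⟨fun ⟨x, hx, e⟩ => Nat.eq_of_beq_eq_true e ▸ hx, fun hx => ⟨i.1, hx, Nat.beq_refl _⟩⟩
  rw [← hany, ← h1, Bool.and_eq_true, Nat.beq_eq, Nat.beq_eq, ← rep_lEl (k := 0) (by norm_num),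
    ← rep_lEl (k := 1) (by norm_num)]
  constructor
  · intro hi
    have hl : ∀ k < 3, lEl k ∈ zTwo := fun k hk => zTwo_eq ▸ Or.inr ⟨k, hk, rfl⟩
    exact ⟨congrArg Fin.val (hi _ (hl 0 (by norm_num))), congrArg Fin.val (hi _ (hl 1 (by norm_num)))⟩
  · rintro ⟨e0, e1⟩ x hx
    rw [zTwo_eq] at hx
    have h2 := conj_ok
    simp only [Bool.and_eq_true] at h2
    have e2 : lEl 2 = lEl 0 * lEl 1 := rep_unique (rep_lEl (by norm_num))
      (rep_mul h2.1.1.2 (rep_lEl (by norm_num)) (rep_lEl (by norm_num)))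
    rcases hx with rfl | ⟨k, hk, rfl⟩
    · exact one_smul _ _
    · obtain rfl | rfl | rfl : k = 0 ∨ k = 1 ∨ k = 2 := by omega
      · exact Fin.ext e0
      · exact Fin.ext e1
      · rw [e2, mul_smul, show lEl 1 • i = i from Fin.ext e1]; exact Fin.ext e0

lemma smul_fixF {g : G} (hg : g ∈ nGrp) {i : Fin 1782} (hi : i ∈ fixF) : g • i ∈ fixF := by
  intro x hx
  have h1 : g⁻¹ * x * g ∈ zTwo := by
    rw [hg (g⁻¹ * x * g), show g * (g⁻¹ * x * g) * g⁻¹ = x by group]
    exact hx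
  have h2 := hi _ h1
  rwa [mul_smul, mul_smul, inv_smul_eq_iff] at h2

lemma pt01_isolated {i : Fin 1782} (hi : i ∈ fixF) :
    (i = pt0 ∨ i = pt1) ↔ ∀ y ∈ fixF, ¬ Rel i y := by
  have h := fix_ok
  simp only [Bool.and_eq_true, List.all_eq_true] at h
  obtain ⟨⟨⟨⟨⟨⟨⟨-, hcov⟩, hiso⟩, hno⟩, -⟩, -⟩, hr0⟩, hr1⟩ := h
  constructor
  · rintro (rfl | rfl) y hy hrel
    · have := ((rel_iff_row (p := pt0) hr0 y).1 hrel)
      have h1 := hno y.1 ((mem_fixF y).1 hy)
      simp [this] at h1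
    · have := ((rel_iff_row (p := pt1) hr1 y).1 hrel)
      have h1 := hno y.1 ((mem_fixF y).1 hy)
      simp [this] at h1
  · intro hall
    by_contra hne
    push Not at hne
    have h1 := hcov i.1 ((mem_fixF i).1 hi)
    simp only [Bool.or_eq_true, List.any_eq_true] at h1
    rcases h1 with (h1 | h1) | ⟨e, he, hei⟩
    · exact hne.1 (Fin.ext (Nat.eq_of_beq_eq_true h1))
    · exact hne.2 (Fin.ext (Nat.eq_of_beq_eq_true h1))
    · have h2 := hiso e he
      simp only [List.all_eq_true, List.any_eq_true, Nat.blt_eq] at h2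
      obtain ⟨⟨⟨⟨hu, hu0⟩, hj⟩, hjlt⟩, y, hy, hye⟩ := h2
      have hu' : e.2.1.all (fun l => decide (l < 7)) = true := List.all_eq_true.2 hu
      have hgi : wd e.2.1 • pt0 = i := Fin.ext ((wd_smul hu' pt0).trans
        ((Nat.eq_of_beq_eq_true hu0).trans (Nat.eq_of_beq_eq_true hei)))
      refine hall (wd e.2.1 • ⟨e.2.2, hjlt⟩) ?_ ?_
      · rw [mem_fixF, wd_smul hu']
        exact Nat.eq_of_beq_eq_true hye ▸ hy
      · rw [← hgi, rel_smul, rel_pt0, orbit_ptC_eq]
        exact hj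

lemma nGrp_pair {g : G} (hg : g ∈ nGrp) {i : Fin 1782} (hi : i = pt0 ∨ i = pt1) :
    g • i = pt0 ∨ g • i = pt1 := by
  have h := fix_ok
  simp only [Bool.and_eq_true, List.any_eq_true] at h
  obtain ⟨⟨⟨⟨-, h0⟩, h1⟩, -⟩, -⟩ := h
  have hmem : i ∈ fixF := by
    rw [mem_fixF]
    rcases hi with rfl | rfl
    · obtain ⟨x, hx, e⟩ := h0; show 0 ∈ fixL; rw [Nat.eq_of_beq_eq_true e]; exact hx
    · obtain ⟨x, hx, e⟩ := h1; show 1 ∈ fixL; rw [Nat.eq_of_beq_eq_true e]; exact hx
  rw [pt01_isolated (smul_fixF hg hmem)]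
  intro y hy hrel
  have hy' : g⁻¹ • y ∈ fixF := smul_fixF (inv_mem hg) hy
  refine (pt01_isolated hmem).1 hi _ hy' ?_
  rw [← rel_smul g, smul_inv_smul]
  exact hrel

lemma odd_mem_pairP {g : G} (hg : g ∈ nGrp) (ho : Odd (orderOf g)) : g ∈ pairP := by
  have hne : pt0 ≠ pt1 := fun e => absurd (congrArg Fin.val e) (by decide)
  have hfix : g • pt0 = pt0 := by
    rcases nGrp_pair hg (Or.inl rfl) with h | h
    · exact h
    exfalso
    have h1 : g • pt1 = pt0 := by
      rcases nGrp_pair hg (Or.inr rfl) with h' | h'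
      · exact h'
      · exact absurd (MulAction.injective g (h.trans h'.symm)) hne
    have key : ∀ n : ℕ, (g ^ (2 * n + 1)) • pt0 = pt1 := by
      intro n
      induction n with
      | zero => rw [Nat.mul_zero, Nat.zero_add, pow_one]; exact h
      | succ n ih =>
        rw [show 2 * (n + 1) + 1 = 2 * n + 1 + 1 + 1 by ring, pow_succ', pow_succ', mul_smul,
          mul_smul, ih, h1, h]
    obtain ⟨n, hn⟩ := ho
    have := key n
    rw [← hn, pow_orderOf_eq_one, one_smul] at this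
    exact hne this
  refine ⟨hfix, ?_⟩
  show g • pt1 = pt1
  rcases nGrp_pair hg (Or.inr rfl) with h | h
  · exact absurd (MulAction.injective g (hfix.trans h.symm)) hne
  · exact h

/-- The pair stabiliser is generated by the odd order elements of the normaliser. -/
theorem pairP_eq_closure :
    Subgroup.closure {g : G | g ∈ nGrp ∧ Odd (orderOf g)} = pairP := by
  refine le_antisymm ((Subgroup.closure_le _).2 fun g hg => odd_mem_pairP hg.1 hg.2) ?_
  rw [← pClo_eq, pClo]
  refine Subgroup.closure_mono ?_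
  rintro _ ⟨j, hj, rfl⟩
  refine ⟨pClo_le_nGrp (Subgroup.subset_closure ⟨j, hj, rfl⟩), ?_⟩
  exact Odd.of_dvd_nat (by decide) (orderOf_dvd_of_pow_eq_one (pGen_facts hj).2.2)

end Cfsg.Agent.H32.OutSuz
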