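import Cfsg.Agent.H32.OutSuz.Overgroup
import Cfsg.Agent.H32.OutSuz.Bound
import Cfsg.Prelude.Def_KGroupFacts

/-!
The automorphism group of the presented Suzuki group.
-/

set_option autoImplicit false
set_option Elab.async false
set_option linter.style.haveILetI false

namespace Cfsg.Agent.H32.OutSuz

open Cfsg Cfsg.Agent.H45 MulAction

lemma only_pt0 (z : Fin 1782) (hz : ∀ h ∈ stabilizer G pt0, h • z = z) : z = pt0 := by
  have h1 : orbit (stabilizer G pt0) z = {z} := by
    ext x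
    constructor
    · rintro ⟨g, rfl⟩; exact hz g.1 g.2
    · rintro rfl; exact mem_orbit_self _
  rcases suborbit_cases z with h | h | h
  · exact h
  · have e := card_orbit_ptC
    rw [← orbit_eq_iff.2 h, h1, Set.ncard_singleton] at e
    omega
  · have e := card_orbit_pt1
    rw [← orbit_eq_iff.2 h, h1, Set.ncard_singleton] at e
    omega

/-- A permutation commuting with the group is trivial. -/
lemma perm_centraliser {c : Equiv.Perm (Fin 1782)} (hc : ∀ (g : G) z, c (g • z) = g • c z) :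
    c = 1 := by
  have h0 : c pt0 = pt0 := only_pt0 _ fun h hh => by
    rw [← hc, show h • pt0 = pt0 from hh]
  refine Equiv.ext fun x => ?_
  obtain ⟨g, rfl⟩ := exists_smul_eq G pt0 x
  rw [hc, h0]
  rfl

lemma conj_injective_suz : Function.Injective (MulAut.conj : G →* MulAut G) := by
  rw [injective_iff_map_eq_one]
  intro m hm
  have hc : ∀ x : G, m * x = x * m := fun x => by
    have h : m * x * m⁻¹ = x := by rw [← MulAut.conj_apply, hm, MulAut.one_apply]
    exact mul_inv_eq_iff_eq_mul.1 h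
  refine phi_inj ?_
  rw [map_one]
  exact perm_centraliser fun g z => by rw [← smul_eq, ← smul_eq, ← mul_smul, hc, mul_smul]

/-! ### Automorphisms as permutations -/

lemma exists_autPerm (φ : MulAut G) : ∃ ψ : autFix [],
    ∀ (g : G) z, ψ.1 (g • z) = φ g • ψ.1 z := by
  obtain ⟨g0, hg0⟩ := exists_conj_stab φ
  set χ : MulAut G := MulAut.conj g0 * φ with hχ
  have hmem : ∀ x, x ∈ stabilizer G pt0 ↔ χ x ∈ stabilizer G pt0 := fun x => by
    conv_rhs => rw [← hg0]
    exact (Subgroup.mem_map_iff_mem χ.injective).symm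
  choose s hs using fun y : Fin 1782 => exists_smul_eq G pt0 y
  set σ : Fin 1782 → Fin 1782 := fun y => χ (s y) • pt0 with hσ
  have hσg : ∀ g, σ (g • pt0) = χ g • pt0 := by
    intro g
    have h1 : (s (g • pt0))⁻¹ * g ∈ stabilizer G pt0 := by
      show ((s (g • pt0))⁻¹ * g) • pt0 = pt0
      rw [mul_smul, inv_smul_eq_iff, hs]
    have h2 : χ ((s (g • pt0))⁻¹ * g) • pt0 = pt0 := (hmem _).1 h1
    rw [map_mul, map_inv, mul_smul, inv_smul_eq_iff] at h2
    exact h2.symm
  have hσeq : ∀ g y, σ (g • y) = χ g • σ y := by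
    intro g y
    obtain ⟨k, rfl⟩ := exists_smul_eq G pt0 y
    rw [← mul_smul, hσg, hσg, map_mul, mul_smul]
  have hinj : Function.Injective σ := by
    intro y z h
    obtain ⟨a, rfl⟩ := exists_smul_eq G pt0 y
    obtain ⟨b, rfl⟩ := exists_smul_eq G pt0 z
    rw [hσg, hσg] at h
    have h1 : χ (b⁻¹ * a) ∈ stabilizer G pt0 := by
      show χ (b⁻¹ * a) • pt0 = pt0
      rw [map_mul, map_inv, mul_smul, h, inv_smul_smul]
    have h2 : (b⁻¹ * a) • pt0 = pt0 := (hmem _).2 h1
    rwa [mul_smul, inv_smul_eq_iff] at h2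
  have hσ0 : σ pt0 = pt0 := by
    have := hσg 1
    rwa [one_smul, map_one, one_smul] at this
  set σe : Equiv.Perm (Fin 1782) :=
    Equiv.ofBijective σ (Finite.injective_iff_bijective.1 hinj) with hσe
  have horb : ∀ z, σ '' orbit (stabilizer G pt0) z = orbit (stabilizer G pt0) (σ z) := by
    intro z
    ext w
    constructor
    · rintro ⟨_, ⟨⟨h, hh⟩, rfl⟩, rfl⟩
      exact ⟨⟨χ h, (hmem h).1 hh⟩, (hσeq h z).symm⟩
    · rintro ⟨⟨h, hh⟩, rfl⟩
      obtain ⟨k, rfl⟩ := χ.surjective h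
      exact ⟨k • z, ⟨⟨k, (hmem k).2 hh⟩, rfl⟩, hσeq k z⟩
  have hC : orbit (stabilizer G pt0) (σ ptC) = orbit (stabilizer G pt0) ptC := by
    refine orbit_eq_iff.2 (other_orbit _ ?_)
    rw [← horb, Set.ncard_image_of_injective _ hinj, card_orbit_ptC]
  have hrel : ∀ y z, Rel (σ y) (σ z) ↔ Rel y z := by
    intro y z
    obtain ⟨g, rfl⟩ := exists_smul_eq G pt0 y
    obtain ⟨w, rfl⟩ : ∃ w, g • w = z := ⟨g⁻¹ • z, smul_inv_smul g z⟩
    rw [hσeq, hσeq, rel_smul, rel_smul, hσ0, rel_pt0, rel_pt0]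
    conv_lhs => rw [← hC, ← horb]
    exact hinj.mem_set_image
  set ψ : Equiv.Perm (Fin 1782) := σe.trans (MulAction.toPerm g0⁻¹) with hψ
  have hψv : ∀ z, ψ z = g0⁻¹ • σ z := fun z => rfl
  refine ⟨⟨ψ, fun i j => by rw [hψv, hψv, rel_smul, hrel],
    fun p hp => absurd hp (by simp)⟩, fun g z => ?_⟩
  show ψ (g • z) = φ g • ψ z
  rw [hψv, hψv, hσeq]
  generalize σ z = w
  rw [← mul_smul, ← mul_smul]
  congr 1
  rw [hχ, MulAut.mul_apply, MulAut.conj_apply]
  group

lemma card_mulAut_le : Finite (MulAut G) ∧ Nat.card (MulAut G) ≤ 896690995200 := by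
  choose f hf using exists_autPerm
  have hinj : Function.Injective f := by
    intro φ φ' h
    refine MulEquiv.ext fun g => eq_of_smul_eq_smul fun y : Fin 1782 => ?_
    obtain ⟨z, rfl⟩ : ∃ z, (f φ).1 z = y := ⟨(f φ).1.symm y, Equiv.apply_symm_apply _ _⟩
    rw [← hf φ g z, h, ← hf φ' g z]
  exact ⟨Finite.of_injective f hinj,
    (Nat.card_le_card_of_injective f hinj).trans card_autFix_nil⟩

/-! ### An outer automorphism -/

theorem tau_ok : ((allB 1782 fun i => Nat.blt (cget tauC i) 1782 &&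
      Nat.beq (cget tauC (cget tauC i)) i) &&
    (allB 5 fun l => allB 1782 fun i =>
      Nat.beq (cget tauC (cget (SuzI1782.cols.getD l 0) (cget tauC i)))
        (cget (SuzI1782.cols.getD l 0) i)) &&
    (allB 2 fun l => Nat.blt (cIds.getD l 0) prog.length && allB 1782 fun i =>
      Nat.beq (cget tauC (cget (SuzI1782.cols.getD (5 + l) 0) (cget tauC i)))
        (cget (valOf (cIds.getD l 0)) i)) &&
    gW.all (fun l => decide (l < 7)) &&
    (allB 5 fun k => Nat.beq (wordAt gW (cget tauC (base5.getD k 0 % 1782))) (base5.getD k 0 % 1782)) &&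
    Nat.blt gMove 1782 && !Nat.beq (wordAt gW (cget tauC gMove)) gMove) = true := by
  decide +kernel

lemma tau_lt (i : Fin 1782) : cget tauC i.1 < 1782 ∧ cget tauC (cget tauC i.1) = i.1 := by
  have h := tau_ok
  simp only [Bool.and_eq_true] at h
  have h1 := allB_spec h.1.1.1.1.1.1 i.1 i.2
  rw [Bool.and_eq_true, Nat.blt_eq] at h1
  exact ⟨h1.1, Nat.eq_of_beq_eq_true h1.2⟩

/-- An outer permutation. -/
def tau : Equiv.Perm (Fin 1782) where
  toFun i := ⟨cget tauC i.1, (tau_lt i).1⟩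
  invFun i := ⟨cget tauC i.1, (tau_lt i).1⟩
  left_inv i := Fin.ext (tau_lt i).2
  right_inv i := Fin.ext (tau_lt i).2

lemma tau_conj (g : G) : ∃ h : G, ∀ i : Fin 1782, h • i = tau (g • tau i) := by
  have hg : g ∈ Subgroup.closure {x | ∃ l, l < SuzPres.pres.gl.length ∧ SuzPres.pres.e l = x} := by
    rw [SuzPres.ok.gen]; exact Subgroup.mem_top g
  induction hg using Subgroup.closure_induction with
  | mem x hx =>
    obtain ⟨l, hl, rfl⟩ := hx
    rw [SuzMain.rl] at hl
    have h := tau_ok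
    simp only [Bool.and_eq_true] at h
    obtain ⟨⟨⟨⟨⟨⟨-, h5⟩, h2⟩, -⟩, -⟩, -⟩, -⟩ := h
    by_cases hl5 : l < 5
    · refine ⟨ev l, fun i => Fin.ext ?_⟩
      rw [rep_gen hl]
      show _ = cget tauC (ev l • tau i).1
      rw [rep_gen hl]
      exact (Nat.eq_of_beq_eq_true (allB_spec (allB_spec h5 l hl5) i.1 i.2)).symm
    · have h3 := allB_spec h2 (l - 5) (by omega)
      rw [Bool.and_eq_true, Nat.blt_eq, show 5 + (l - 5) = l by omega] at h3
      refine ⟨el (cIds.getD (l - 5) 0), fun i => Fin.ext ?_⟩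
      rw [rep_el h3.1]
      show _ = cget tauC (ev l • tau i).1
      rw [rep_gen hl]
      exact (Nat.eq_of_beq_eq_true (allB_spec h3.2 i.1 i.2)).symm
  | one => exact ⟨1, fun i => by rw [one_smul, one_smul]; exact (Fin.ext (tau_lt i).2).symm⟩
  | mul a b _ _ ha hb =>
    obtain ⟨p, hp⟩ := ha
    obtain ⟨q, hq⟩ := hb
    refine ⟨p * q, fun i => ?_⟩
    have e : ∀ z, tau (tau z) = z := fun z => Fin.ext (tau_lt z).2
    rw [mul_smul, hp, hq, e, mul_smul]
  | inv a _ ha =>
    obtain ⟨p, hp⟩ := ha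
    refine ⟨p⁻¹, fun i => ?_⟩
    have e : ∀ z, tau (tau z) = z := fun z => Fin.ext (tau_lt z).2
    rw [inv_smul_eq_iff, hp, e, smul_inv_smul, e]

lemma exists_outer : ∃ φ : MulAut G, φ ∉ Inn G := by
  choose f hf using tau_conj
  have e : ∀ z, tau (tau z) = z := fun z => Fin.ext (tau_lt z).2
  let θ : G →* G :=
    { toFun := f
      map_one' := eq_of_smul_eq_smul fun i : Fin 1782 => by rw [hf, one_smul, one_smul, e]
      map_mul' := fun a b => eq_of_smul_eq_smul fun i : Fin 1782 => by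
        rw [hf, mul_smul, mul_smul, hf, hf, e] }
  have hinj : Function.Injective θ := by
    intro a b h
    refine eq_of_smul_eq_smul fun i : Fin 1782 => ?_
    have h1 : f a • tau i = f b • tau i := congrArg (fun x : G => x • tau i) h
    rw [hf, hf, e] at h1
    exact tau.injective h1
  refine ⟨MulEquiv.ofBijective θ (Finite.injective_iff_bijective.1 hinj), ?_⟩
  rintro ⟨m, hm⟩
  have hmg : ∀ g : G, m * g * m⁻¹ = f g := fun g => DFunLike.congr_fun hm g
  have hc : (phi m)⁻¹ * tau = 1 := perm_centraliser fun g z => by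
    rw [Equiv.Perm.mul_apply, Equiv.Perm.mul_apply]
    have h1 : tau (g • z) = f g • tau z := by rw [hf, e]
    rw [h1, ← hmg, Equiv.Perm.inv_def, Equiv.symm_apply_eq, ← smul_eq, mul_smul, mul_smul,
      inv_smul_eq_iff.2]
    rw [smul_eq m, Equiv.apply_symm_apply]
  have htau : ∀ i, tau i = m • i := fun i => by
    rw [smul_eq]
    exact congrArg (fun p : Equiv.Perm (Fin 1782) => p i) (inv_mul_eq_one.1 hc).symm
  have h := tau_ok
  simp only [Bool.and_eq_true, Bool.not_eq_true'] at h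
  obtain ⟨⟨⟨⟨-, hw⟩, hbase⟩, hlt⟩, hmove⟩ := h
  have h1 : wd gW * m = 1 := eq_one_of_fix fun k => by
    refine Fin.ext ?_
    rw [mul_smul, ← htau, wd_smul hw]
    exact Nat.eq_of_beq_eq_true (allB_spec hbase k.1 k.2)
  rw [Nat.blt_eq] at hlt
  have h2 : (wd gW * m) • (⟨gMove, hlt⟩ : Fin 1782) = ⟨gMove, hlt⟩ := by rw [h1, one_smul]
  have h3 := congrArg Fin.val h2
  rw [mul_smul, ← htau, wd_smul hw] at h3
  rw [show wordAt gW (cget tauC gMove) = gMove from h3, Nat.beq_refl] at hmove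
  exact Bool.noConfusion hmove

/-- The outer automorphism group has order two. -/
theorem card_out_suz : Nat.card (Cfsg.Out Cfsg.Spor.Suz) = 2 := by
  obtain ⟨hfin, hle⟩ := card_mulAut_le
  have h1 : Nat.card (Inn G) = 448345497600 := by
    rw [← card_G]
    exact (Nat.card_congr (MonoidHom.ofInjective conj_injective_suz).toEquiv).symm
  have h2 := (Inn G).card_mul_index
  rw [h1] at h2
  have h3 : (Inn G).index ≠ 1 := by
    rw [ne_eq, Subgroup.index_eq_one]
    obtain ⟨φ, hφ⟩ := exists_outer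
    exact fun h => hφ (h ▸ Subgroup.mem_top φ)
  have h4 : (Inn G).index ≠ 0 := Subgroup.index_ne_zero_of_finite
  show (Inn G).index = 2
  generalize (Inn G).index = k at h2 h3 h4 ⊢
  generalize Nat.card (MulAut G) = a at h2 hle
  omega

end Cfsg.Agent.H32.OutSuz
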