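import Cfsg.Agent.H32.OutSuz.Data
import Cfsg.Agent.H45.CosetPrim

/-!
The action on the 1782 cosets, packed permutations for named elements, and the point stabiliser.
-/

set_option autoImplicit false
set_option Elab.async false
set_option linter.style.haveILetI false

namespace Cfsg.Agent.H32.OutSuz

open Cfsg.Agent.H45 MulAction

/-- The presented group. -/
abbrev G : Type := SuzPres.pres.Gp

instance finiteG : Finite G := SuzMain.order_facts.1

lemma card_G : Nat.card G = 448345497600 := SuzMain.order_facts.2.1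

/-- The permutation representation. -/
noncomputable def phi : G →* Equiv.Perm (Fin 1782) := SuzMain.order_facts.2.2.choose

lemma phi_act : Act (permCheck_PT SuzMain.perm_ok) SuzPres.pres.e phi :=
  SuzMain.order_facts.2.2.choose_spec.1

lemma phi_inj : Function.Injective phi := SuzMain.order_facts.2.2.choose_spec.2.1

lemma phi_coset : ∃ F : G ⧸ SuzMain.H ≃ Fin 1782,
    ∀ g : G, ∀ x : G ⧸ SuzMain.H, F (g • x) = phi g (F x) :=
  SuzMain.order_facts.2.2.choose_spec.2.2

noncomputable instance actionG : MulAction G (Fin 1782) := MulAction.compHom _ phi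

lemma smul_eq (g : G) (i : Fin 1782) : g • i = phi g i := rfl

instance faithfulG : FaithfulSMul G (Fin 1782) :=
  ⟨fun h => phi_inj (Equiv.ext h)⟩

instance pretransG : IsPretransitive G (Fin 1782) := ⟨fun i j => by
  obtain ⟨F, hF⟩ := phi_coset
  exact transitive_of_equiv F hF i j⟩

/-! ### Packed permutations -/

/-- A packed permutation is the one of a group element. -/
def Rep (g : G) (P : ℕ) : Prop := ∀ i : Fin 1782, (g • i).1 = cget P i.1

/-- A letter. -/
abbrev ev (l : ℕ) : G := SuzPres.pres.e l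

/-- The element of a word. -/
noncomputable def wd (w : List ℕ) : G := evalW ev w

/-- The image of a point under a word. -/
def wordAt (w : List ℕ) (i : ℕ) : ℕ :=
  w.foldr (fun l x => cget (SuzI1782.cols.getD l 0) x) i

lemma linv_id (L l : ℕ) : linv (List.range L) l = l := linv_range L l

lemma rep_gen {l : ℕ} (hl : l < 7) : Rep (ev l) (SuzI1782.cols.getD l 0) := by
  intro i
  have hl' : l < SuzPres.pres.gl.length := by rw [SuzMain.rl]; exact hl
  rw [smul_eq, phi_act.map l hl', sig, dif_pos hl']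
  simp only [Equiv.coe_fn_mk, linv_id]
  rfl

lemma wd_smul : ∀ {w : List ℕ}, w.all (fun l => decide (l < 7)) = true → ∀ i : Fin 1782,
    (wd w • i).1 = wordAt w i.1
  | [], _, i => by
    show ((1 : G) • i).1 = i.1
    rw [one_smul]
  | l :: w, h, i => by
    rw [List.all_cons, Bool.and_eq_true, decide_eq_true_eq] at h
    rw [wd, evalW_cons, mul_smul, rep_gen h.1, ← wd, wd_smul h.2 i]
    rfl

/-- A check for all numbers below a bound, in blocks. -/
def allB (n : ℕ) (f : ℕ → Bool) : Bool :=
  (List.range (n / 64 + 1)).all fun q => (List.range 64).all fun r =>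
    Nat.ble n (64 * q + r) || f (64 * q + r)

lemma allB_spec {n : ℕ} {f : ℕ → Bool} (h : allB n f = true) (i : ℕ) (hi : i < n) : f i = true := by
  rw [allB, List.all_eq_true] at h
  have h1 := h (i / 64) (List.mem_range.2 (by omega))
  rw [List.all_eq_true] at h1
  have h2 := h1 (i % 64) (List.mem_range.2 (by omega))
  rw [show 64 * (i / 64) + i % 64 = i by omega, Bool.or_eq_true, Nat.ble_eq] at h2
  rcases h2 with h2 | h2
  · omega
  · exact h2

lemma allB_of {n : ℕ} {f : ℕ → Bool} (h : ∀ i < n, f i = true) : allB n f = true := by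
  simp only [allB, List.all_eq_true]
  intro q _ r _
  rw [Bool.or_eq_true, Nat.ble_eq]
  rcases Nat.lt_or_ge (64 * q + r) n with h1 | h1
  · exact Or.inr (h _ h1)
  · exact Or.inl h1

/-- A check below a bound from the checks of consecutive pieces of length `m`. -/
lemma allB_of_parts {n m c : ℕ} {f : ℕ → Bool} (hn : n ≤ c * m)
    (h : ∀ a < c, allB m (fun i => Nat.ble n (a * m + i) || f (a * m + i)) = true) :
    allB n f = true := by
  refine allB_of fun i hi => ?_
  have hm : 0 < m := Nat.pos_of_ne_zero fun e => by subst e; omega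
  have ha : i / m < c := Nat.div_lt_of_lt_mul (by rw [mul_comm]; omega)
  have hb := allB_spec (h _ ha) (i % m) (Nat.mod_lt _ hm)
  rw [show i / m * m + i % m = i from Nat.div_add_mod' i m, Bool.or_eq_true, Nat.ble_eq] at hb
  exact hb.resolve_left (by omega)

/-- A value of the program. -/
def valOf (k : ℕ) : ℕ := vals.getD k 0

/-- A packed product. -/
def mulOK (R P Q : ℕ) : Bool :=
  allB 1782 fun i => Nat.blt (cget Q i) 1782 && Nat.beq (cget R i) (cget P (cget Q i))

/-- The check of one step. -/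
def opOK (n : ℕ) : Op → Bool
  | .gen k => Nat.blt k 7 && Nat.beq (valOf n) (SuzI1782.cols.getD k 0)
  | .mul i j => Nat.blt i n && Nat.blt j n && mulOK (valOf n) (valOf i) (valOf j)

lemma prog_ok_0 : allB 29 (fun i => Nat.ble prog.length (0 * 29 + i) ||
    opOK (0 * 29 + i) (prog.getD (0 * 29 + i) (.gen 0))) = true := by decide +kernel

lemma prog_ok_1 : allB 29 (fun i => Nat.ble prog.length (1 * 29 + i) ||
    opOK (1 * 29 + i) (prog.getD (1 * 29 + i) (.gen 0))) = true := by decide +kernel

lemma prog_ok_2 : allB 29 (fun i => Nat.ble prog.length (2 * 29 + i) ||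
    opOK (2 * 29 + i) (prog.getD (2 * 29 + i) (.gen 0))) = true := by decide +kernel

lemma prog_ok_3 : allB 29 (fun i => Nat.ble prog.length (3 * 29 + i) ||
    opOK (3 * 29 + i) (prog.getD (3 * 29 + i) (.gen 0))) = true := by decide +kernel

lemma prog_ok_4 : allB 29 (fun i => Nat.ble prog.length (4 * 29 + i) ||
    opOK (4 * 29 + i) (prog.getD (4 * 29 + i) (.gen 0))) = true := by decide +kernel

lemma prog_ok_5 : allB 29 (fun i => Nat.ble prog.length (5 * 29 + i) ||
    opOK (5 * 29 + i) (prog.getD (5 * 29 + i) (.gen 0))) = true := by decide +kernel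

theorem prog_ok : (allB prog.length fun n => opOK n (prog.getD n (.gen 0))) = true := by
  refine allB_of_parts (m := 29) (c := 6) (by decide +kernel) fun a ha => ?_
  interval_cases a
  exacts [prog_ok_0, prog_ok_1, prog_ok_2, prog_ok_3, prog_ok_4, prog_ok_5]

lemma rep_mul {R P Q : ℕ} {g h : G} (hR : mulOK R P Q = true) (hg : Rep g P) (hh : Rep h Q) :
    Rep (g * h) R := by
  intro i
  have hi := allB_spec hR i.1 i.2
  simp only [Bool.and_eq_true] at hi
  rw [mul_smul, hg, hh, Nat.eq_of_beq_eq_true hi.2]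

/-- Every value of the program is the permutation of a group element. -/
theorem exists_rep : ∀ n, n < prog.length → ∃ g : G, Rep g (valOf n) := by
  intro n
  induction n using Nat.strong_induction_on with
  | _ n ih =>
    intro hn
    have h := allB_spec prog_ok n hn
    revert h
    cases prog.getD n (.gen 0) with
    | gen k =>
      intro h
      simp only [opOK, Bool.and_eq_true, Nat.blt_eq] at h
      exact ⟨ev k, by rw [Nat.eq_of_beq_eq_true h.2]; exact rep_gen h.1⟩
    | mul i j =>
      intro h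
      simp only [opOK, Bool.and_eq_true, Nat.blt_eq] at h
      obtain ⟨g, hg⟩ := ih i h.1.1 (by omega)
      obtain ⟨k, hk⟩ := ih j h.1.2 (by omega)
      exact ⟨g * k, rep_mul h.2 hg hk⟩

/-- The element of a step of the program. -/
noncomputable def el (n : ℕ) : G :=
  open Classical in if h : ∃ g : G, Rep g (valOf n) then h.choose else 1

lemma rep_el {n : ℕ} (hn : n < prog.length) : Rep (el n) (valOf n) := by
  rw [el, dif_pos (exists_rep n hn)]
  exact (exists_rep n hn).choose_spec

lemma rep_unique {g h : G} {P : ℕ} (hg : Rep g P) (hh : Rep h P) : g = h :=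
  eq_of_smul_eq_smul fun i : Fin 1782 => Fin.ext ((hg i).trans (hh i).symm)

/-! ### The point stabiliser -/

/-- The base point. -/
def pt0 : Fin 1782 := ⟨0, by norm_num⟩

/-- The second point. -/
def pt1 : Fin 1782 := ⟨1, by norm_num⟩

/-- A neighbour of the base point. -/
def ptC : Fin 1782 := ⟨44, by norm_num⟩

lemma stab0_eq : stabilizer G pt0 = SuzMain.H := by
  symm
  have hle : SuzMain.H ≤ stabilizer G pt0 := fun h hh =>
    fixZero_sound phi_act (by norm_num) SuzI1782.fix_ok le_rfl hh
  refine Subgroup.eq_of_le_of_card_ge hle (le_of_eq ?_)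
  have h1 := (stabilizer G pt0).card_mul_index
  have h2 := SuzMain.H.card_mul_index
  rw [index_stabilizer_of_transitive, Nat.card_fin] at h1
  rw [SuzMain.H_index] at h2
  exact Nat.eq_of_mul_eq_mul_right (by norm_num) (h1.trans h2.symm)

lemma card_stab0 : Nat.card (stabilizer G pt0) = 251596800 := by
  have h1 := (stabilizer G pt0).card_mul_index
  rw [index_stabilizer_of_transitive, Nat.card_fin, card_G] at h1
  exact Nat.eq_of_mul_eq_mul_right (show 0 < 1782 by norm_num)
    (h1.trans (by norm_num : (448345497600 : ℕ) = 251596800 * 1782))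

lemma orbit_stab0_eq (x : Fin 1782) : orbit (stabilizer G pt0) x =
    orbit (Subgroup.closure {y | ∃ g ∈ SuzI1782.subWords,
      evalW (sig (permCheck_PT SuzMain.perm_ok)) g = y}) x := by
  rw [← map_wsub phi_act SuzMain.subWords_lt, stab0_eq]
  ext z
  constructor
  · rintro ⟨⟨h, hh⟩, rfl⟩
    exact ⟨⟨phi h, Subgroup.mem_map_of_mem _ hh⟩, rfl⟩
  · rintro ⟨⟨_, h, hh, rfl⟩, rfl⟩
    exact ⟨⟨h, hh⟩, rfl⟩

lemma card_orbit_ptC : (orbit (stabilizer G pt0) ptC).ncard = 416 := by
  obtain ⟨hb, e⟩ := orbExact_sound (permCheck_PT SuzMain.perm_ok) SuzMain.subWords_lt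
    SuzExtra.orb416_ok
  rw [orbit_stab0_eq, show ptC = (⟨44, hb⟩ : Fin 1782) from rfl]
  generalize (⟨44, hb⟩ : Fin 1782) = p at e ⊢
  exact e

lemma card_orbit_pt1 : (orbit (stabilizer G pt0) pt1).ncard = 1365 := by
  obtain ⟨hb, e⟩ := orbExact_sound (permCheck_PT SuzMain.perm_ok) SuzMain.subWords_lt
    SuzExtra.orb1365_ok
  rw [orbit_stab0_eq, show pt1 = (⟨1, hb⟩ : Fin 1782) from rfl]
  generalize (⟨1, hb⟩ : Fin 1782) = p at e ⊢
  exact e

lemma orbit_pt0 : orbit (stabilizer G pt0) pt0 = {pt0} := by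
  ext x
  constructor
  · rintro ⟨g, rfl⟩; exact g.2
  · rintro rfl; exact mem_orbit_self _

lemma suborbit_cases (z : Fin 1782) :
    z = pt0 ∨ z ∈ orbit (stabilizer G pt0) ptC ∨ z ∈ orbit (stabilizer G pt0) pt1 := by
  have dis : Disjoint (orbit (stabilizer G pt0) ptC) (orbit (stabilizer G pt0) pt1) := by
    rw [Set.disjoint_left]
    intro x h1 h2
    have e1 := card_orbit_ptC
    have e2 := card_orbit_pt1
    rw [← orbit_eq_iff.2 h1, orbit_eq_iff.2 h2] at e1
    omega
  have n0 : ∀ p : Fin 1782, (orbit (stabilizer G pt0) p).ncard ≠ 1 →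
      pt0 ∉ orbit (stabilizer G pt0) p := by
    intro p hp h
    rw [← orbit_eq_iff.2 h, orbit_pt0, Set.ncard_singleton] at hp
    exact hp rfl
  have hu : insert pt0 (orbit (stabilizer G pt0) ptC ∪ orbit (stabilizer G pt0) pt1) =
      (Set.univ : Set (Fin 1782)) := by
    refine Set.eq_of_subset_of_ncard_le (Set.subset_univ _) ?_ (Set.toFinite _)
    have q1 := n0 ptC (by rw [card_orbit_ptC]; norm_num)
    have q2 := n0 pt1 (by rw [card_orbit_pt1]; norm_num)
    rw [Set.ncard_univ, Nat.card_fin, Set.ncard_insert_of_notMem (by simp [q1, q2]) (Set.toFinite _),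
      Set.ncard_union_eq dis, card_orbit_ptC, card_orbit_pt1]
  have := hu.symm ▸ Set.mem_univ z
  simpa using this

/-- The adjacency: the orbit of the pair of the base point and its neighbour. -/
def Rel (i j : Fin 1782) : Prop := ∃ g : G, g • pt0 = i ∧ g • ptC = j

lemma rel_smul (g : G) (i j : Fin 1782) : Rel (g • i) (g • j) ↔ Rel i j := by
  constructor
  · rintro ⟨k, h1, h2⟩
    exact ⟨g⁻¹ * k, by rw [mul_smul, h1, inv_smul_smul], by rw [mul_smul, h2, inv_smul_smul]⟩
  · rintro ⟨k, rfl, rfl⟩
    exact ⟨g * k, mul_smul _ _ _, mul_smul _ _ _⟩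

lemma rel_pt0 (z : Fin 1782) : Rel pt0 z ↔ z ∈ orbit (stabilizer G pt0) ptC :=
  ⟨fun ⟨g, h1, h2⟩ => ⟨⟨g, h1⟩, h2⟩, fun ⟨⟨g, h1⟩, h2⟩ => ⟨g, h1, h2⟩⟩

lemma other_orbit (z : Fin 1782) (hz : (orbit (stabilizer G pt0) z).ncard = 416) :
    z ∈ orbit (stabilizer G pt0) ptC := by
  rcases suborbit_cases z with rfl | h | h
  · rw [orbit_pt0, Set.ncard_singleton] at hz
    omega
  · exact h
  · rw [orbit_eq_iff.2 h, card_orbit_pt1] at hz
    omega

end Cfsg.Agent.H32.OutSuz
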