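import Cfsg.Agent.H32.OutSuz.Perm

/-!
Rows of the adjacency relation and pointwise stabilisers of a base.
-/

set_option autoImplicit false
set_option Elab.async false

namespace Cfsg.Agent.H32.OutSuz

open Cfsg.Agent.H45 MulAction

/-- Equality of truth values. -/
def beqB : Bool → Bool → Bool
  | true, b => b
  | false, b => !b

lemma beqB_eq : ∀ {a b : Bool}, beqB a b = true → a = b := by decide

/-- The set of a row. -/
def rowSet (K : ℕ) : Set (Fin 1782) := {x | bget K x.1 = true}

/-- The number of points of a row. -/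
def rowCount (K : ℕ) : ℕ := ((List.range 1782).filter (bget K)).length

lemma ncard_rowSet (K : ℕ) : (rowSet K).ncard = rowCount K := by
  rw [rowCount, ← List.toFinset_card_of_nodup (List.Nodup.filter _ List.nodup_range),
    ← Set.ncard_coe_finset]
  refine Set.ncard_congr (fun i _ => i.1) (fun i hi => ?_) (fun i j _ _ h => Fin.ext h) ?_
  · rw [Finset.mem_coe, List.mem_toFinset, List.mem_filter, List.mem_range]
    exact ⟨i.2, hi⟩
  · intro n hn
    rw [Finset.mem_coe, List.mem_toFinset, List.mem_filter, List.mem_range] at hn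
    exact ⟨⟨n, hn.1⟩, hn.2, rfl⟩

theorem rowZero_ok : (Nat.beq (rowCount rowZero) 416 && bget rowZero 44 &&
    allB 1782 fun i => !bget rowZero i ||
      (List.range 6).all fun l => bget rowZero (cget (SuzI1782.cols.getD l 0) i)) = true := by
  decide +kernel

lemma orbit_ptC_eq : orbit (stabilizer G pt0) ptC = rowSet rowZero := by
  have h := rowZero_ok
  simp only [Bool.and_eq_true] at h
  obtain ⟨⟨hc, h44⟩, hinv⟩ := h
  have hstep : ∀ l < 6, ∀ x ∈ rowSet rowZero, ev l • x ∈ rowSet rowZero := by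
    intro l hl x hx
    have h1 := allB_spec hinv x.1 x.2
    rw [show bget rowZero x.1 = true from hx, Bool.not_true, Bool.false_or,
      List.all_eq_true] at h1
    show bget rowZero (ev l • x).1 = true
    rw [rep_gen (show l < 7 by omega) x]
    exact h1 l (List.mem_range.2 hl)
  have hmem : ∀ g ∈ stabilizer G pt0, ∀ x ∈ rowSet rowZero, g • x ∈ rowSet rowZero := by
    intro g hg
    rw [stab0_eq, SuzMain.H, Pres.wsub] at hg
    induction hg using Subgroup.closure_induction with
    | mem y hy =>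
      obtain ⟨w, hw, rfl⟩ := hy
      have hw' : ∃ l < 6, w = [l] := by
        simp only [SuzI1782.subWords, List.mem_cons, List.not_mem_nil, or_false] at hw
        rcases hw with rfl | rfl | rfl | rfl | rfl | rfl <;> exact ⟨_, by norm_num, rfl⟩
      obtain ⟨l, hl, rfl⟩ := hw'
      intro x hx
      rw [show evalW SuzPres.pres.e [l] = ev l from List.prod_singleton]
      exact hstep l hl x hx
    | one => intro x hx; rw [one_smul]; exact hx
    | mul a b _ _ ha hb => intro x hx; rw [mul_smul]; exact ha _ (hb x hx)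
    | inv a _ ha =>
      intro x hx
      have himg : (fun y => a • y) '' rowSet rowZero = rowSet rowZero :=
        Set.eq_of_subset_of_ncard_le (Set.image_subset_iff.2 fun y hy => ha y hy)
          (Set.ncard_image_of_injective _ (MulAction.injective a)).ge (Set.toFinite _)
      rw [← himg] at hx
      obtain ⟨y, hy, rfl⟩ := hx
      rw [inv_smul_smul]
      exact hy
  refine Set.eq_of_subset_of_ncard_le ?_ ?_ (Set.toFinite _)
  · rintro _ ⟨⟨g, hg⟩, rfl⟩
    exact hmem g hg ptC h44
  · rw [ncard_rowSet, Nat.eq_of_beq_eq_true hc, card_orbit_ptC]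

/-- A row is the translate of the row of the base point. -/
def rowOK (p : ℕ) (u : List ℕ) (K : ℕ) : Bool :=
  u.all (fun l => decide (l < 7)) && Nat.beq (wordAt u 0) p && Nat.beq (rowCount K) 416 &&
    allB 1782 fun i => !bget rowZero i || bget K (wordAt u i)

lemma rel_iff_row {p : Fin 1782} {u : List ℕ} {K : ℕ} (h : rowOK p.1 u K = true) (x : Fin 1782) :
    Rel p x ↔ bget K x.1 = true := by
  simp only [rowOK, Bool.and_eq_true] at h
  obtain ⟨⟨⟨hu, hp⟩, hc⟩, himg⟩ := h
  have hgp : wd u • pt0 = p := Fin.ext ((wd_smul hu pt0).trans (Nat.eq_of_beq_eq_true hp))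
  have hsub : (fun z => wd u • z) '' rowSet rowZero ⊆ rowSet K := by
    rintro _ ⟨z, hz, rfl⟩
    have h1 := allB_spec himg z.1 z.2
    rw [show bget rowZero z.1 = true from hz, Bool.not_true, Bool.false_or] at h1
    show bget K (wd u • z).1 = true
    rw [wd_smul hu z]
    exact h1
  have himg' : (fun z => wd u • z) '' rowSet rowZero = rowSet K := by
    refine Set.eq_of_subset_of_ncard_le hsub (le_of_eq ?_) (Set.toFinite _)
    rw [Set.ncard_image_of_injective _ (MulAction.injective _), ncard_rowSet K,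
      Nat.eq_of_beq_eq_true hc, ← orbit_ptC_eq, card_orbit_ptC]
  obtain ⟨z, rfl⟩ : ∃ z, wd u • z = x := ⟨(wd u)⁻¹ • x, smul_inv_smul _ _⟩
  rw [← hgp, rel_smul, rel_pt0, orbit_ptC_eq]
  show z ∈ rowSet rowZero ↔ wd u • z ∈ rowSet K
  rw [← himg']
  exact ((MulAction.injective (wd u)).mem_set_image).symm

/-- A chain bounds the product with the pointwise stabiliser of its base points. -/
theorem chain_mul_le {L n : ℕ} {iv cols : List ℕ} (P : PT L n iv cols) : ∀ {lvs : List Lvl},
    chainCheck L n cols lvs = true → ∀ (Y Z : Subgroup (Equiv.Perm (Fin n))),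
      (∀ lv ∈ lvs, ∀ g ∈ lv.gens, evalW (sig P) g ∈ Y) → Z ≤ Y →
      (∀ lv ∈ lvs, ∀ z ∈ Z, ∀ hb : lv.base < n, z ⟨lv.base, hb⟩ = ⟨lv.base, hb⟩) →
      chainProd lvs * Nat.card Z ≤ Nat.card Y := by
  intro lvs
  induction lvs with
  | nil =>
    intro _ Y Z _ hZY _
    rw [chainProd, Nat.one_mul]
    exact Subgroup.card_le_of_le hZY
  | cons lv rest ih =>
    intro h Y Z hY hZY hZ
    have hlet := chainCheck_letters h
    simp only [chainCheck, Bool.and_eq_true] at h
    obtain ⟨⟨⟨-, hfix⟩, horb⟩, hrest⟩ := h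
    obtain ⟨hb, hcount⟩ := orbLow_sound P (hlet lv List.mem_cons_self) horb
    let b : Fin n := ⟨lv.base, hb⟩
    have h1 : chainProd rest * Nat.card Z
        ≤ Nat.card (Y ⊓ stabilizer (Equiv.Perm (Fin n)) b : Subgroup _) := by
      refine ih hrest _ Z (fun lv' hlv' g hg => Subgroup.mem_inf.mpr
        ⟨hY lv' (List.mem_cons_of_mem _ hlv') g hg, ?_⟩) (fun z hz => ⟨hZY hz,
          hZ lv List.mem_cons_self z hz hb⟩) fun lv' hlv' => hZ lv' (List.mem_cons_of_mem _ hlv')
      have h2 := (List.all_eq_true.mp ((List.all_eq_true.mp hfix) lv' hlv')) g hg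
      simp only [Nat.beq_eq] at h2
      rw [mem_stabilizer_iff, Equiv.Perm.smul_def, ← Equiv.Perm.eq_inv_iff_eq]
      apply Fin.ext
      rw [sig_walk P g (hlet lv' (List.mem_cons_of_mem _ hlv') g hg), ← walkC_map]
      exact h2.symm
    have h2 : Nat.card (orbit Y b) * Nat.card (stabilizer Y b) = Nat.card Y := by
      rw [← Nat.card_prod]
      exact Nat.card_congr (orbitProdStabilizerEquivGroup Y b)
    have h3 : Nat.card (stabilizer Y b) =
        Nat.card (Y ⊓ stabilizer (Equiv.Perm (Fin n)) b : Subgroup _) :=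
      Nat.card_congr ⟨fun x => ⟨x.1.1, x.1.2, x.2⟩, fun x => ⟨⟨x.1, x.2.1⟩, x.2.2⟩,
        fun _ => rfl, fun _ => rfl⟩
    rw [← h2, h3, chainProd, Nat.mul_assoc]
    exact Nat.mul_le_mul (hcount Y fun g hg => hY lv List.mem_cons_self g hg) h1

/-- The base points of the stabiliser chain of the group. -/
def base5 : List ℕ := [0, 915, 24, 8, 15]

theorem base5_ok : (SuzExtra.chain.map fun lv => lv.base) = base5 := by decide +kernel

/-- The base points of the stabiliser chain as points. -/
def ptB (k : Fin 5) : Fin 1782 := ⟨base5.getD k.1 0 % 1782, Nat.mod_lt _ (by norm_num)⟩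

/-- An element fixing the base is trivial. -/
theorem eq_one_of_fix {g : G} (h : ∀ k, g • ptB k = ptB k) : g = 1 := by
  have hle := chain_mul_le (permCheck_PT SuzMain.perm_ok) SuzExtra.chain_ok phi.range
    ((Subgroup.zpowers g).map phi)
    (fun lv hlv w hw => ⟨_, phi_act.evalW w (chainCheck_letters SuzExtra.chain_ok lv hlv w hw)⟩)
    (fun x hx => by
      obtain ⟨y, -, rfl⟩ := hx
      exact ⟨y, rfl⟩)
    (fun lv hlv z hz hb => ?_)
  · have hr : Nat.card phi.range = 448345497600 :=
      (Nat.card_congr (MonoidHom.ofInjective phi_inj).toEquiv).symm.trans card_G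
    rw [SuzExtra.chain_prod, hr, Subgroup.card_map_of_injective phi_inj] at hle
    have h1 : Nat.card (Subgroup.zpowers g) ≤ 1 :=
      Nat.le_of_mul_le_mul_left (hle.trans_eq (Nat.mul_one _).symm) (by norm_num)
    rw [Nat.card_zpowers] at h1
    exact orderOf_eq_one_iff.1 (le_antisymm h1 (orderOf_pos g))
  · obtain ⟨y, hy, rfl⟩ := hz
    have hmem : lv.base ∈ base5 := base5_ok ▸ List.mem_map.2 ⟨lv, hlv, rfl⟩
    obtain ⟨k, hk, hk'⟩ := List.mem_iff_getElem.1 hmem
    have hk5 : k < 5 := hk
    have hpt : ptB ⟨k, hk5⟩ = ⟨lv.base, hb⟩ := by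
      refine Fin.ext ?_
      show base5.getD k 0 % 1782 = lv.base
      rw [List.getD_eq_getElem _ _ hk, hk', Nat.mod_eq_of_lt hb]
    have hgk : g ∈ stabilizer G (ptB ⟨k, hk5⟩) := h _
    have hyk : y • ptB ⟨k, hk5⟩ = ptB ⟨k, hk5⟩ := Subgroup.zpowers_le.2 hgk hy
    rwa [hpt] at hyk

end Cfsg.Agent.H32.OutSuz
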