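import Cfsg.Agent.H32.OutSuz.Rows

/-!
A Sylow 2-subgroup given by a table of its elements, and the second term of its upper central
series.
-/

set_option autoImplicit false
set_option Elab.async false
set_option linter.style.haveILetI false

namespace Cfsg.Agent.H32.OutSuz

open Cfsg.Agent.H45 MulAction

/-- A generator of the Sylow subgroup. -/
noncomputable def tGen (j : ℕ) : G := el (tIds.getD j 0)

/-- The packed permutation of a generator. -/
def tP (j : ℕ) : ℕ := valOf (tIds.getD j 0)

theorem tIds_ok : (allB 4 fun j => Nat.blt (tIds.getD j 0) prog.length) = true := by decide +kernel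

lemma rep_tGen {j : ℕ} (hj : j < 4) : Rep (tGen j) (tP j) :=
  rep_el (Nat.blt_eq ▸ allB_spec tIds_ok j hj : tIds.getD j 0 < prog.length)

/-- The generators. -/
def tSet : Set G := {g | ∃ j < 4, tGen j = g}

/-- The Sylow subgroup. -/
def subT : Subgroup G := Subgroup.closure tSet

/-! ### The table of nodes -/

/-- The images of the base under the nodes. -/
def ndB (k : ℕ) : ℕ := [ndB0, ndB1, ndB2, ndB3, ndB4].getD k 0

/-- Left multiplication. -/
def ndL (j : ℕ) : ℕ := [ndL0, ndL1, ndL2, ndL3].getD j 0

/-- Right multiplication. -/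
def ndR (j : ℕ) : ℕ := [ndR0, ndR1, ndR2, ndR3].getD j 0

/-- Left multiplication by a product of generators. -/
def ndLW (w : List ℕ) (i : ℕ) : ℕ := w.foldr (fun j x => cget (ndL j) x) i

/-- The key of a node. -/
def key (i : ℕ) : ℕ :=
  (List.range 5).foldr (fun k acc => Nat.add (Nat.mul 2048 acc) (cget (ndB k) i)) 0

theorem start_ok : (allB 5 fun k => Nat.beq (cget (ndB k) 0) (base5.getD k 0 % 1782)) = true := by
  decide +kernel

/-- The check `left_ok` at one node. -/
def left_okF : ℕ → Bool := fun i => (List.range 4).all fun j =>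
    let c := cget (ndL j) i
    Nat.blt c 8192 && (List.range 5).all fun k =>
      Nat.beq (cget (ndB k) c) (cget (tP j) (cget (ndB k) i))

lemma left_ok_0 : allB 1024 (fun i => Nat.ble 8192 (0 * 1024 + i) || left_okF (0 * 1024 + i)) = true := by
  decide +kernel

lemma left_ok_1 : allB 1024 (fun i => Nat.ble 8192 (1 * 1024 + i) || left_okF (1 * 1024 + i)) = true := by
  decide +kernel

lemma left_ok_2 : allB 1024 (fun i => Nat.ble 8192 (2 * 1024 + i) || left_okF (2 * 1024 + i)) = true := by
  decide +kernel

lemma left_ok_3 : allB 1024 (fun i => Nat.ble 8192 (3 * 1024 + i) || left_okF (3 * 1024 + i)) = true := by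
  decide +kernel

lemma left_ok_4 : allB 1024 (fun i => Nat.ble 8192 (4 * 1024 + i) || left_okF (4 * 1024 + i)) = true := by
  decide +kernel

lemma left_ok_5 : allB 1024 (fun i => Nat.ble 8192 (5 * 1024 + i) || left_okF (5 * 1024 + i)) = true := by
  decide +kernel

lemma left_ok_6 : allB 1024 (fun i => Nat.ble 8192 (6 * 1024 + i) || left_okF (6 * 1024 + i)) = true := by
  decide +kernel

lemma left_ok_7 : allB 1024 (fun i => Nat.ble 8192 (7 * 1024 + i) || left_okF (7 * 1024 + i)) = true := by
  decide +kernel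

theorem left_ok : (allB 8192 fun i => (List.range 4).all fun j =>
    let c := cget (ndL j) i
    Nat.blt c 8192 && (List.range 5).all fun k =>
      Nat.beq (cget (ndB k) c) (cget (tP j) (cget (ndB k) i))) = true := by
  refine allB_of_parts (m := 1024) (c := 8) (by decide) fun a ha => ?_
  interval_cases a
  exacts [left_ok_0, left_ok_1, left_ok_2, left_ok_3, left_ok_4, left_ok_5, left_ok_6, left_ok_7]

/-- The check `sorted_ok` at one node. -/
def sorted_okF : ℕ → Bool := fun i => Nat.blt (key (cget ndSrt i)) (key (cget ndSrt (i + 1)))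

lemma sorted_ok_0 : allB 2048 (fun i => Nat.ble 8191 (0 * 2048 + i) || sorted_okF (0 * 2048 + i)) = true := by
  decide +kernel

lemma sorted_ok_1 : allB 2048 (fun i => Nat.ble 8191 (1 * 2048 + i) || sorted_okF (1 * 2048 + i)) = true := by
  decide +kernel

lemma sorted_ok_2 : allB 2048 (fun i => Nat.ble 8191 (2 * 2048 + i) || sorted_okF (2 * 2048 + i)) = true := by
  decide +kernel

lemma sorted_ok_3 : allB 2048 (fun i => Nat.ble 8191 (3 * 2048 + i) || sorted_okF (3 * 2048 + i)) = true := by
  decide +kernel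

theorem sorted_ok : (allB 8191 fun r => Nat.blt (key (cget ndSrt r)) (key (cget ndSrt (r + 1)))) =
    true := by
  refine allB_of_parts (m := 2048) (c := 4) (by decide) fun a ha => ?_
  interval_cases a
  exacts [sorted_ok_0, sorted_ok_1, sorted_ok_2, sorted_ok_3]

theorem rank_ok : (allB 8192 fun i => Nat.blt (cget ndRk i) 8192 &&
    Nat.beq (cget ndSrt (cget ndRk i)) i) = true := by
  decide +kernel

theorem tree_ok : (allB 8192 fun i => Nat.beq i 0 || (Nat.blt (cget ndPar i) i &&
    Nat.blt (cget ndGen i) 4 && Nat.beq (cget (ndL (cget ndGen i)) (cget ndPar i)) i)) = true := by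
  decide +kernel

/-- The check `right_ok` at one node. -/
def right_okF : ℕ → Bool := fun i => (List.range 4).all fun j =>
    if Nat.beq i 0 then Nat.beq (cget (ndR j) 0) (cget (ndL j) 0)
    else Nat.beq (cget (ndR j) i) (cget (ndL (cget ndGen i)) (cget (ndR j) (cget ndPar i)))

lemma right_ok_0 : allB 2048 (fun i => Nat.ble 8192 (0 * 2048 + i) || right_okF (0 * 2048 + i)) = true := by
  decide +kernel

lemma right_ok_1 : allB 2048 (fun i => Nat.ble 8192 (1 * 2048 + i) || right_okF (1 * 2048 + i)) = true := by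
  decide +kernel

lemma right_ok_2 : allB 2048 (fun i => Nat.ble 8192 (2 * 2048 + i) || right_okF (2 * 2048 + i)) = true := by
  decide +kernel

lemma right_ok_3 : allB 2048 (fun i => Nat.ble 8192 (3 * 2048 + i) || right_okF (3 * 2048 + i)) = true := by
  decide +kernel

theorem right_ok : (allB 8192 fun i => (List.range 4).all fun j =>
    if Nat.beq i 0 then Nat.beq (cget (ndR j) 0) (cget (ndL j) 0)
    else Nat.beq (cget (ndR j) i) (cget (ndL (cget ndGen i)) (cget (ndR j) (cget ndPar i)))) =
    true := by
  refine allB_of_parts (m := 2048) (c := 4) (by decide) fun a ha => ?_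
  interval_cases a
  exacts [right_ok_0, right_ok_1, right_ok_2, right_ok_3]

/-- The element maps the base to the tuple of the node. -/
def Nd (g : G) (i : ℕ) : Prop := i < 8192 ∧ ∀ k : Fin 5, (g • ptB k).1 = cget (ndB k.1) i

lemma nd_elem {g h : G} {i : ℕ} (hg : Nd g i) (hh : Nd h i) : g = h := by
  have h1 : h⁻¹ * g = 1 := eq_one_of_fix fun k => by
    rw [mul_smul, inv_smul_eq_iff]
    exact Fin.ext ((hg.2 k).trans (hh.2 k).symm)
  exact (inv_mul_eq_one.1 h1).symm

lemma nd_idx {g : G} {i i' : ℕ} (hg : Nd g i) (hg' : Nd g i') : i = i' := by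
  have hk : key i = key i' := by
    have e : ∀ k < 5, cget (ndB k) i = cget (ndB k) i' := fun k hk =>
      (hg.2 ⟨k, hk⟩).symm.trans (hg'.2 ⟨k, hk⟩)
    simp only [key, List.range_succ, List.range_zero, List.nil_append, List.cons_append,
      List.foldr_cons, List.foldr_nil, e 0 (by norm_num), e 1 (by norm_num), e 2 (by norm_num),
      e 3 (by norm_num), e 4 (by norm_num)]
  have hmono : ∀ d r, r + d + 1 < 8192 → key (cget ndSrt r) < key (cget ndSrt (r + d + 1)) := by
    intro d
    induction d with
    | zero =>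
      intro r hr
      exact Nat.blt_eq ▸ allB_spec sorted_ok r (by omega)
    | succ d ih =>
      intro r hr
      exact (ih r (by omega)).trans (Nat.blt_eq ▸ allB_spec sorted_ok (r + d + 1) (by omega))
  have hr : ∀ i < 8192, cget ndRk i < 8192 ∧ cget ndSrt (cget ndRk i) = i := fun i hi => by
    have h := allB_spec rank_ok i hi
    simp only [Bool.and_eq_true, Nat.blt_eq] at h
    exact ⟨h.1, Nat.eq_of_beq_eq_true h.2⟩
  obtain ⟨a1, a2⟩ := hr i hg.1
  obtain ⟨b1, b2⟩ := hr i' hg'.1
  rcases Nat.lt_trichotomy (cget ndRk i) (cget ndRk i') with h | h | h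
  · have := hmono (cget ndRk i' - cget ndRk i - 1) (cget ndRk i) (by omega)
    rw [show cget ndRk i + (cget ndRk i' - cget ndRk i - 1) + 1 = cget ndRk i' by omega, a2, b2,
      hk] at this
    exact absurd this (lt_irrefl _)
  · rw [← a2, h, b2]
  · have := hmono (cget ndRk i - cget ndRk i' - 1) (cget ndRk i') (by omega)
    rw [show cget ndRk i' + (cget ndRk i - cget ndRk i' - 1) + 1 = cget ndRk i by omega, a2, b2,
      hk] at this
    exact absurd this (lt_irrefl _)

lemma nd_one : Nd 1 0 :=
  ⟨by norm_num, fun k => by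
    rw [one_smul]
    exact (Nat.eq_of_beq_eq_true (allB_spec start_ok k.1 k.2)).symm⟩

lemma nd_left {g : G} {i j : ℕ} (hj : j < 4) (hg : Nd g i) : Nd (tGen j * g) (cget (ndL j) i) := by
  have h := allB_spec left_ok i hg.1
  rw [List.all_eq_true] at h
  have h1 := h j (List.mem_range.2 hj)
  simp only [Bool.and_eq_true, Nat.blt_eq, List.all_eq_true] at h1
  refine ⟨h1.1, fun k => ?_⟩
  rw [mul_smul, rep_tGen hj, hg.2, Nat.eq_of_beq_eq_true (h1.2 k.1 (List.mem_range.2 k.2))]

lemma exists_elem : ∀ i < 8192, ∃ g ∈ subT, Nd g i := by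
  intro i
  induction i using Nat.strong_induction_on with
  | _ i ih =>
    intro hi
    have h := allB_spec tree_ok i hi
    simp only [Bool.or_eq_true, Bool.and_eq_true, Nat.blt_eq] at h
    obtain h | ⟨⟨hp, hg⟩, he⟩ := h
    · rw [Nat.eq_of_beq_eq_true h]
      exact ⟨1, one_mem _, nd_one⟩
    · obtain ⟨g, hgT, hgn⟩ := ih _ hp (by omega)
      refine ⟨tGen (cget ndGen i) * g, mul_mem (Subgroup.subset_closure ⟨_, hg, rfl⟩) hgT, ?_⟩
      have := nd_left hg hgn
      rwa [Nat.eq_of_beq_eq_true he] at this

lemma exists_node {g : G} (hg : g ∈ subT) : ∃ i, Nd g i := by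
  have h : g ∈ Submonoid.closure tSet := by
    rw [← Subgroup.closure_toSubmonoid_of_finite]
    exact hg
  induction h using Submonoid.closure_induction_left with
  | one => exact ⟨0, nd_one⟩
  | mul_left x hx y hy ih =>
    obtain ⟨j, hj, rfl⟩ := hx
    have hy' : y ∈ subT := by
      have h1 : y ∈ (Subgroup.closure tSet).toSubmonoid := by
        rw [Subgroup.closure_toSubmonoid_of_finite]; exact hy
      exact h1
    obtain ⟨i, hi⟩ := ih hy'
    exact ⟨_, nd_left hj hi⟩

lemma card_subT : Nat.card subT = 8192 := by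
  choose f hf using fun g : subT => exists_node g.2
  rw [← Nat.card_fin 8192]
  refine Nat.card_congr (Equiv.ofBijective (fun g => (⟨f g, (hf g).1⟩ : Fin 8192)) ⟨?_, ?_⟩)
  · intro a b h
    have h1 : f a = f b := congrArg Fin.val h
    exact Subtype.ext (nd_elem (hf a) (h1 ▸ hf b))
  · intro i
    obtain ⟨g, hg, hn⟩ := exists_elem i.1 i.2
    exact ⟨⟨g, hg⟩, Fin.ext (nd_idx (hf ⟨g, hg⟩) hn)⟩

lemma nd_right {j : ℕ} (hj : j < 4) : ∀ {i : ℕ} {g : G}, Nd g i →
    Nd (g * tGen j) (cget (ndR j) i) := by
  intro i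
  induction i using Nat.strong_induction_on with
  | _ i ih =>
    intro g hg
    have h := allB_spec right_ok i hg.1
    rw [List.all_eq_true] at h
    have h1 := h j (List.mem_range.2 hj)
    by_cases h0 : i = 0
    · subst h0
      rw [if_pos (by decide)] at h1
      rw [nd_elem hg nd_one, one_mul, Nat.eq_of_beq_eq_true h1]
      simpa using nd_left hj nd_one
    · have hne : ¬ Nat.beq i 0 = true := fun e => h0 (Nat.eq_of_beq_eq_true e)
      rw [if_neg hne] at h1
      have h2 := allB_spec tree_ok i hg.1
      simp only [Bool.or_eq_true, Bool.and_eq_true, Nat.blt_eq] at h2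
      obtain h2 | ⟨⟨hp, hgen⟩, he⟩ := h2
      · exact absurd h2 hne
      obtain ⟨p, -, hpn⟩ := exists_elem (cget ndPar i) (by have := hg.1; omega)
      have hgp : g = tGen (cget ndGen i) * p := nd_elem hg (by
        have h3 := nd_left hgen hpn
        rwa [Nat.eq_of_beq_eq_true he] at h3)
      rw [hgp, mul_assoc, Nat.eq_of_beq_eq_true h1]
      exact nd_left hgen (ih _ hp hpn)

/-- A product of generators. -/
noncomputable def tProd (w : List ℕ) : G := (w.map tGen).prod

lemma nd_prod : ∀ {w : List ℕ}, w.all (fun j => Nat.blt j 4) = true → ∀ {g : G} {i : ℕ}, Nd g i →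
    Nd (tProd w * g) (ndLW w i)
  | [], _, g, i, h => by
    show Nd (1 * g) i
    rwa [one_mul]
  | j :: w, hw, g, i, h => by
    rw [List.all_cons, Bool.and_eq_true, Nat.blt_eq] at hw
    show Nd (tGen j * tProd w * g) (cget (ndL j) (ndLW w i))
    rw [mul_assoc]
    exact nd_left hw.1 (nd_prod hw.2 h)

/-! ### The centre and the second centre -/

/-- The word of the central involution. -/
def zW : List ℕ := lWords.getD 0 []

/-- The central involution. -/
noncomputable def zEl : G := tProd zW

theorem zW_ok : (zW.all (fun j => Nat.blt j 4) && Nat.beq (ndLW zW 0) izN &&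
    Nat.beq (ndLW zW izN) 0) = true := by
  decide +kernel

lemma nd_z : Nd zEl izN := by
  have h := zW_ok
  simp only [Bool.and_eq_true] at h
  have := nd_prod h.1.1 nd_one
  rw [mul_one, Nat.eq_of_beq_eq_true h.1.2] at this
  exact this

lemma zEl_mem : zEl ∈ subT := by
  obtain ⟨g, hg, hn⟩ := exists_elem izN nd_z.1
  rwa [nd_elem nd_z hn]

lemma zEl_sq : zEl * zEl = 1 := by
  have h := zW_ok
  simp only [Bool.and_eq_true] at h
  have h1 := nd_prod h.1.1 nd_z
  rw [Nat.eq_of_beq_eq_true h.2] at h1
  exact nd_elem h1 nd_one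

/-- The check `centre_ok` at one node. -/
def centre_okF : ℕ → Bool := fun i => !((List.range 4).all fun j => Nat.beq (cget (ndR j) i) (cget (ndL j) i)) ||
      (Nat.beq i 0 || Nat.beq i izN)

lemma centre_ok_0 : allB 2731 (fun i => Nat.ble 8192 (0 * 2731 + i) || centre_okF (0 * 2731 + i)) = true := by
  decide +kernel

lemma centre_ok_1 : allB 2731 (fun i => Nat.ble 8192 (1 * 2731 + i) || centre_okF (1 * 2731 + i)) = true := by
  decide +kernel

lemma centre_ok_2 : allB 2731 (fun i => Nat.ble 8192 (2 * 2731 + i) || centre_okF (2 * 2731 + i)) = true := by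
  decide +kernel

theorem centre_ok : (allB 8192 fun i =>
    !((List.range 4).all fun j => Nat.beq (cget (ndR j) i) (cget (ndL j) i)) ||
      (Nat.beq i 0 || Nat.beq i izN)) = true := by
  refine allB_of_parts (m := 2731) (c := 3) (by decide) fun a ha => ?_
  interval_cases a
  exacts [centre_ok_0, centre_ok_1, centre_ok_2]

theorem z_central_ok :
    ((List.range 4).all fun j => Nat.beq (cget (ndR j) izN) (cget (ndL j) izN)) = true := by
  decide +kernel

lemma z_comm {t : G} (ht : t ∈ subT) : t * zEl = zEl * t := by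
  have hgen : ∀ x ∈ tSet, x * zEl = zEl * x := by
    rintro _ ⟨j, hj, rfl⟩
    have h := z_central_ok
    rw [List.all_eq_true] at h
    have h1 := nd_right hj nd_z
    rw [Nat.eq_of_beq_eq_true (h j (List.mem_range.2 hj))] at h1
    exact (nd_elem h1 (nd_left hj nd_z)).symm
  induction ht using Subgroup.closure_induction with
  | mem x hx => exact hgen x hx
  | one => rw [one_mul, mul_one]
  | mul a b _ _ ha hb => rw [mul_assoc, hb, ← mul_assoc, ha, mul_assoc]
  | inv a _ ha =>
    have h : Commute a zEl := ha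
    exact h.inv_left

lemma centre_cases {c : G} (hc : c ∈ subT) (hcom : ∀ s ∈ subT, c * s = s * c) :
    c = 1 ∨ c = zEl := by
  obtain ⟨i, hi⟩ := exists_node hc
  have h := allB_spec centre_ok i hi.1
  have hall : ((List.range 4).all fun j => Nat.beq (cget (ndR j) i) (cget (ndL j) i)) = true := by
    rw [List.all_eq_true]
    intro j hj
    rw [List.mem_range] at hj
    have h1 := nd_right hj hi
    rw [hcom _ (Subgroup.subset_closure ⟨j, hj, rfl⟩)] at h1
    rw [nd_idx h1 (nd_left hj hi)]
    simp
  rw [hall, Bool.not_true, Bool.false_or, Bool.or_eq_true] at h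
  rcases h with h | h
  · exact Or.inl (nd_elem (Nat.eq_of_beq_eq_true h ▸ hi) nd_one)
  · exact Or.inr (nd_elem (Nat.eq_of_beq_eq_true h ▸ hi) nd_z)

/-- The second centre of the Sylow subgroup, as a set. -/
def zTwo : Set G :=
  {g | g ∈ subT ∧ ∀ t ∈ subT, ∀ s ∈ subT, g * t * g⁻¹ * t⁻¹ * s = s * (g * t * g⁻¹ * t⁻¹)}

/-- A node of the second centre. -/
def z2Node (i : ℕ) : Bool :=
  (List.range 4).all fun j => Nat.beq (cget (ndR j) i) (cget (ndL j) i) ||
    Nat.beq (cget (ndR j) i) (ndLW zW (cget (ndL j) i))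

theorem z2_ok : ((allB 8192 fun i => !z2Node i || z2L.any (Nat.beq i)) &&
    z2L.all fun i => Nat.blt i 8192 && z2Node i) = true := by
  decide +kernel

lemma mem_zTwo {g : G} {i : ℕ} (hg : Nd g i) (hgT : g ∈ subT) : g ∈ zTwo ↔ i ∈ z2L := by
  have hz4 : zW.all (fun j => Nat.blt j 4) = true := by
    have h := zW_ok
    simp only [Bool.and_eq_true] at h
    exact h.1.1
  have h := z2_ok
  simp only [Bool.and_eq_true, List.all_eq_true] at h
  obtain ⟨h1, h2⟩ := h
  constructor
  · rintro ⟨-, hc⟩
    have hnode : z2Node i = true := by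
      rw [z2Node, List.all_eq_true]
      intro j hj
      rw [List.mem_range] at hj
      have htj : tGen j ∈ subT := Subgroup.subset_closure ⟨j, hj, rfl⟩
      have hcT : g * tGen j * g⁻¹ * (tGen j)⁻¹ ∈ subT :=
        mul_mem (mul_mem (mul_mem hgT htj) (inv_mem hgT)) (inv_mem htj)
      have e : g * tGen j = g * tGen j * g⁻¹ * (tGen j)⁻¹ * (tGen j * g) := by group
      rw [Bool.or_eq_true]
      rcases centre_cases hcT (hc _ htj) with h' | h' <;> rw [h'] at e
      · rw [one_mul] at e
        left
        rw [nd_idx (nd_right hj hg) (e ▸ nd_left hj hg)]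
        simp
      · right
        rw [nd_idx (nd_right hj hg) (e ▸ nd_prod hz4 (nd_left hj hg))]
        simp
    have h3 := allB_spec h1 i hg.1
    rw [hnode, Bool.not_true, Bool.false_or, List.any_eq_true] at h3
    obtain ⟨x, hx, hxi⟩ := h3
    rwa [Nat.eq_of_beq_eq_true hxi]
  · intro hi
    have hnode := (h2 i hi).2
    rw [z2Node, List.all_eq_true] at hnode
    refine ⟨hgT, ?_⟩
    suffices hall : ∀ t ∈ subT, g * t = t * g ∨ g * t = zEl * (t * g) by
      intro t ht s hs
      rcases hall t ht with e | e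
      · rw [show g * t * g⁻¹ * t⁻¹ = 1 by rw [e]; group, one_mul, mul_one]
      · rw [show g * t * g⁻¹ * t⁻¹ = zEl by rw [e]; group]
        exact (z_comm hs).symm
    intro t ht
    induction ht using Subgroup.closure_induction with
    | mem x hx =>
      obtain ⟨j, hj, rfl⟩ := hx
      have h3 := hnode j (List.mem_range.2 hj)
      rw [Bool.or_eq_true] at h3
      rcases h3 with h3 | h3
      · left
        exact nd_elem (nd_right hj hg) ((Nat.eq_of_beq_eq_true h3).symm ▸ nd_left hj hg)
      · right
        exact nd_elem (nd_right hj hg)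
          ((Nat.eq_of_beq_eq_true h3).symm ▸ nd_prod hz4 (nd_left hj hg))
    | one => left; rw [one_mul, mul_one]
    | mul a b ha _ ea eb =>
      have hza : a * zEl = zEl * a := z_comm ha
      rcases ea with ea | ea <;> rcases eb with eb | eb
      · left
        rw [← mul_assoc, ea, mul_assoc, eb, mul_assoc]
      · right
        rw [← mul_assoc, ea, mul_assoc, eb, ← mul_assoc a, hza]
        simp only [mul_assoc]
      · right
        rw [← mul_assoc, ea, mul_assoc, mul_assoc, eb]
        simp only [mul_assoc]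
      · left
        rw [← mul_assoc, ea, mul_assoc, mul_assoc, eb, ← mul_assoc a zEl, hza,
          mul_assoc zEl a, ← mul_assoc zEl zEl, zEl_sq, one_mul]
        simp only [mul_assoc]
    | inv a ha ea =>
      have hza : a * zEl = zEl * a := z_comm ha
      rcases ea with ea | ea
      · left
        exact (show Commute g a from ea).inv_right
      · right
        calc g * a⁻¹ = a⁻¹ * (a * g) * a⁻¹ := by group
          _ = a⁻¹ * (zEl * (zEl * (a * g))) * a⁻¹ := by rw [← mul_assoc zEl zEl, zEl_sq, one_mul]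
          _ = a⁻¹ * (zEl * (g * a)) * a⁻¹ := by rw [ea]
          _ = a⁻¹ * zEl * g := by group
          _ = zEl * (a⁻¹ * g) := by
            rw [z_comm (inv_mem ha), mul_assoc]

end Cfsg.Agent.H32.OutSuz
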